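import Cfsg.Agent.Lib.Blocks.Star.Lift
import Cfsg.Agent.Lib.Blocks.Star.Global
import Cfsg.Agent.Lib.Blocks.MajorSubsection

/-!
# Twisted traces of idempotents and inner products of translates
-/

set_option autoImplicit false

namespace CfsgLib.FreeInertial

open Cfsg MonoidAlgebra CfsgLib.Blocks CfsgLib.Pairs CfsgLib.Star
open scoped Classical ComplexConjugate

variable {K : Type*} [Group K] [Fintype K] {p : ℕ} [Fact p.Prime] {M : Ideal AlgInt} [M.IsPrime]

omit [Fact p.Prime] in
/-- An idempotent pairs to zero with class functions supported on singular elements. -/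
theorem sum_idem_mul_eq_zero (hM : IsPModular p M) {q : MonoidAlgebra (localRing M) K}
    (hq : q * q = q) {φ : K → ℂ} (hφ : IsClassFunction K φ)
    (hreg : ∀ w, ¬ p ∣ orderOf w → φ w = 0) :
    ∑ w : K, (q.coeff w : ℂ) * φ w = 0 := by
  have := Fact.mk hM.1
  have hkey : ∀ w : K, ∑ x : K, φ w * (q.coeff (x * w * x⁻¹) : ℂ) = 0 := by
    intro w
    by_cases hw : p ∣ orderOf w
    swap
    · simp [hreg w hw]
    obtain ⟨v, hv⟩ := exists_pPart (p := p) hM.1 w⁻¹
    have h1 : IsPPart p (1 : K) 1 := isPPart_one_of_isPRegular (by simpa using hM.1.ne_one)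
    have hv1 : v ≠ 1 := by
      rintro rfl
      obtain ⟨y, hy, -, -, hyr⟩ := hv
      rw [one_mul] at hy
      subst hy
      exact hyr (by rwa [orderOf_inv])
    have h := sum_conj_eq_zero hM hv h1 hq (fun z => by simp) fun x c hx _ => absurd (by
      have h2 : x⁻¹ * v * x = 1 := hx
      calc v = x * (x⁻¹ * v * x) * x⁻¹ := by group
        _ = 1 := by rw [h2]; group) hv1
    rw [← Finset.mul_sum]
    refine mul_eq_zero_of_right _ ?_
    have h' := congrArg Subtype.val h
    simp only [AddSubmonoidClass.coe_finsetSum, ZeroMemClass.coe_zero] at h'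
    rw [← h']
    exact Fintype.sum_equiv (Equiv.inv K) _ _ fun x => by simp [mul_assoc]
  have hswap : (Nat.card K : ℂ) * ∑ w : K, (q.coeff w : ℂ) * φ w =
      ∑ w : K, ∑ x : K, φ w * (q.coeff (x * w * x⁻¹) : ℂ) := by
    rw [Finset.sum_comm, Nat.card_eq_fintype_card, ← Finset.card_univ, ← nsmul_eq_mul,
      ← Finset.sum_const]
    refine Finset.sum_congr rfl fun x _ => ?_
    refine Fintype.sum_equiv (MulAut.conj x⁻¹).toEquiv _ _ fun w => ?_
    simp only [MulEquiv.toEquiv_eq_coe, MulEquiv.coe_toEquiv, MulAut.conj_apply, inv_inv]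
    rw [show x * (x⁻¹ * w * x) * x⁻¹ = w by group, mul_comm,
      show φ (x⁻¹ * w * x) = φ w by simpa using hφ w x⁻¹]
  rw [Finset.sum_eq_zero fun w _ => hkey w] at hswap
  exact (mul_eq_zero.1 hswap).resolve_left (Nat.cast_ne_zero.2 Nat.card_pos.ne')

omit [Fact p.Prime] in
/-- Idempotents only see the values at regular elements. -/
theorem tr_one_congr_regular (hM : IsPModular p M) {q : MonoidAlgebra (localRing M) K}
    (hq : q * q = q) {φ ψ : K → ℂ} (hφ : IsClassFunction K φ) (hψ : IsClassFunction K ψ)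
    (h : ∀ w, ¬ p ∣ orderOf w → φ w = ψ w) : tr φ 1 q = tr ψ 1 q := by
  have h0 := sum_idem_mul_eq_zero hM hq (φ := fun w => φ w - ψ w)
    (fun w x => by
      show φ (x * w * x⁻¹) - ψ (x * w * x⁻¹) = φ w - ψ w
      rw [hφ w x, hψ w x]) fun w hw => by
    show φ w - ψ w = 0
    rw [h w hw, sub_self]
  simp only [mul_sub, Finset.sum_sub_distrib, sub_eq_zero] at h0
  simpa [tr] using h0

omit [Fact p.Prime] in
theorem tr_eq_trace {n : ℕ} {χ : K → ℂ} (ρ : Representation ℂ K (Fin n → ℂ))
    (hρ : ρ.character = χ) (g : K) (a : MonoidAlgebra (localRing M) K) :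
    tr χ g a = LinearMap.trace ℂ _ (ρ.asAlgebraHom (inc M a) * ρ g) := by
  rw [← Representation.asAlgebraHom_single_one, ← map_mul, trace_asAlgebraHom, tr, hρ]
  refine Fintype.sum_equiv (Equiv.mulRight g) _ _ fun w => ?_
  rw [coeff_mul_eq_sum, Finset.sum_eq_single w]
  · simp [coeff_single, Finsupp.single_apply]
  · intro y _ hy
    rw [coeff_single, Finsupp.single_apply, if_neg, mul_zero]
    intro e
    refine hy (inv_injective (mul_right_cancel (b := w * g) ?_))
    simp only [Equiv.coe_mulRight] at e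
    rw [← e]; group
  · simp

omit [Fact p.Prime] in
/-- A character outside a block does not see multiples of its idempotent. -/
theorem tr_mul_blockIdemO_eq_zero {b : Set (IrrCharacter K)} (hb : IsPBlock M b)
    {χ : IrrCharacter K} (hχ : χ ∉ b) (g : K) (a : MonoidAlgebra (localRing M) K) :
    tr (χ : K → ℂ) g (a * blockIdemO M b) = 0 := by
  obtain ⟨n, ρ, hirr, hρ⟩ := χ.2
  rw [tr_eq_trace ρ hρ, map_mul (inc M), map_mul ρ.asAlgebraHom, inc_blockIdemO hb,
    asAlgebraHom_of_central ρ (isCentralElt_blockIdem b), hρ, omega_blockIdem, if_neg hχ, zero_smul,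
    mul_zero, zero_mul, map_zero]

omit [Fact p.Prime] in
/-- A character of a block does not see its idempotent. -/
theorem tr_mul_blockIdemO_self {b : Set (IrrCharacter K)} (hb : IsPBlock M b)
    {χ : IrrCharacter K} (hχ : χ ∈ b) (g : K) (a : MonoidAlgebra (localRing M) K) :
    tr (χ : K → ℂ) g (a * blockIdemO M b) = tr (χ : K → ℂ) g a := by
  obtain ⟨n, ρ, hirr, hρ⟩ := χ.2
  rw [tr_eq_trace ρ hρ, tr_eq_trace ρ hρ, map_mul (inc M), map_mul ρ.asAlgebraHom, inc_blockIdemO hb,
    asAlgebraHom_of_central ρ (isCentralElt_blockIdem b), hρ, omega_blockIdem, if_pos hχ, one_smul,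
    ← Module.End.one_eq_id, mul_one]

/-- The twisted trace at a `p`-element through the centralizer. -/
theorem tr_eq_sum (hM : IsPModular p M) {L : Type*} [Group L] [Fintype L]
    [Fintype (IrrCharacter L)] (ι : L →* K) (hι : Function.Injective ι) {z : K}
    (hz : ∃ k : ℕ, orderOf z = p ^ k) (hrange : ∀ w : K, (∃ l, ι l = w) ↔ Commute w z)
    (θ : IrrCharacter K) {q : MonoidAlgebra (localRing M) K} (hq : q * q = q)
    (hinv : InvUnder (Subgroup.zpowers z) q) {q' : MonoidAlgebra (localRing M) L}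
    (hq' : q' * q' = q') (hred : ∀ l, resHom M (q.coeff (ι l)) = resHom M (q'.coeff l)) :
    tr (θ : K → ℂ) z q = ∑ ξ : IrrCharacter L,
      classInner (fun l => (θ : K → ℂ) (z * ι l)) (ξ : L → ℂ) * tr (ξ : L → ℂ) 1 q' := by
  have hu : IsPPart p z z := ⟨1, mul_one z, Commute.one_right z, hz, by simpa using hM.1.ne_one⟩
  set Q : MonoidAlgebra (localRing M) K := mapDomainRingHom (localRing M) ι q' with hQdef
  have hcoe : ∀ l, Q.coeff (ι l) = q'.coeff l := fun l => Finsupp.mapDomain_apply hι q'.coeff l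
  have hnot : ∀ w, (∀ l, ι l ≠ w) → Q.coeff w = 0 := fun w hw =>
    Finsupp.mapDomain_of_notMem_range q'.coeff w fun ⟨l, hl⟩ => hw l hl
  have hcl : ∀ l, Commute (ι l) z := fun l => (hrange _).1 ⟨l, rfl⟩
  have hQi : InvUnder (Subgroup.zpowers z) Q := by
    intro u hu x
    obtain ⟨i, rfl⟩ := Subgroup.mem_zpowers_iff.1 hu
    by_cases hx : ∃ l, ι l = x
    · obtain ⟨l, rfl⟩ := hx
      rw [((hcl l).symm.zpow_left i).eq, mul_inv_cancel_right]
    · rw [hnot x fun l hl => hx ⟨l, hl⟩, hnot _ fun l hl => hx ⟨l, ?_⟩]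
      have h := hcl l
      rw [hl] at h
      rw [hl]
      have h2 : Commute (z ^ i * x * (z ^ i)⁻¹) (z ^ i) := h.zpow_right i
      have h3 := h2.eq
      simp only [inv_mul_cancel_right] at h3
      calc z ^ i * x * (z ^ i)⁻¹ = (z ^ i)⁻¹ * (z ^ i * (z ^ i * x * (z ^ i)⁻¹)) := by group
        _ = (z ^ i)⁻¹ * (z ^ i * x) := by rw [← h3]
        _ = x := by group
  have hQQ : Q * Q = Q := by rw [hQdef, ← map_mul, hq']
  rw [tr_eq_of_resC_eq hM θ hu hq hQQ hinv hQi (MonoidAlgebra.ext (Finsupp.ext fun w => ?_))]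
  swap
  · obtain ⟨l, hl⟩ := (hrange (w : K)).2
      ((Subgroup.mem_centralizer_iff.1 w.2 z (Subgroup.mem_zpowers z)).symm)
    rw [coeff_resC, coeff_resC, coeff_red, coeff_red, ← hl, hcoe, hred]
  have hφ : IsClassFunction L fun l => (θ : K → ℂ) (z * ι l) := fun l c => by
    show (θ : K → ℂ) (z * ι (c * l * c⁻¹)) = _
    rw [show z * ι (c * l * c⁻¹) = ι c * (z * ι l) * (ι c)⁻¹ by
      simp only [map_mul, map_inv, ← mul_assoc, (hcl c).eq]]
    exact Char.IsIrr.isClassFunction θ.2 _ _
  have h1 : tr (θ : K → ℂ) z Q = ∑ l : L, (q'.coeff l : ℂ) * (θ : K → ℂ) (z * ι l) := by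
    rw [tr, ← Finset.sum_subset (Finset.subset_univ (Finset.univ.image ι))]
    · rw [Finset.sum_image fun a _ b _ h => hι h]
      exact Finset.sum_congr rfl fun l _ => by rw [hcoe, (hcl l).eq]
    · intro w _ hw
      rw [hnot w fun l hl => hw (Finset.mem_image.2 ⟨l, Finset.mem_univ l, hl⟩)]
      simp
  rw [h1]
  simp only [tr, Finset.mul_sum, mul_one]
  rw [Finset.sum_comm]
  refine Finset.sum_congr rfl fun l _ => ?_
  rw [Char.classFunction_apply_eq_sum hφ l, Finset.mul_sum]
  exact Finset.sum_congr rfl fun ξ _ => by ring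

omit [Fact p.Prime] in
/-- Inner products of a translate by a central element are root of unity times integers. -/
theorem isIntegral_classInner_translate {L : Type*} [Group L] [Fintype L] (ι : L →* K)
    (θ : IrrCharacter K) (ξ : IrrCharacter L) {zL : L} (hz : ∀ g : L, g * zL = zL * g) :
    IsIntegral ℤ (classInner (fun l => (θ : K → ℂ) (ι (zL * l))) (ξ : L → ℂ)) := by
  obtain ⟨n, hn⟩ := Char.IsChar.classInner_eq_natCast
    (Char.IsChar.comp ι (Char.IsIrr.isCharacter θ.2)) (Char.IsIrr.isCharacter ξ.2)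
  rw [classInner_translate (fun l => (θ : K → ℂ) (ι l)) ξ hz]
  refine (isIntegral_apply_central_div ξ hz).mul ?_
  rw [show classInner (fun l => (θ : K → ℂ) (ι l)) (ξ : L → ℂ) = (n : ℂ) from hn]
  exact map_natCast (algebraMap ℤ ℂ) n ▸ isIntegral_algebraMap

/-! ### Orthogonality -/

section Orth

variable [Fintype (IrrCharacter K)]

omit [M.IsPrime] in
/-- Orthogonality within a section. -/
theorem sum_classInner_translate_mul {x : K} (hx : ∃ k : ℕ, orderOf x = p ^ k)
    {a a' : Subgroup.centralizer ({x} : Set K) → ℂ}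
    (ha : IsClassFunction (Subgroup.centralizer ({x} : Set K)) a')
    (hs : ∀ w, p ∣ orderOf w → a w = 0) (hs' : ∀ w, p ∣ orderOf w → a' w = 0) :
    ∑ χ : IrrCharacter K,
        classInner (fun c : Subgroup.centralizer ({x} : Set K) => (χ : K → ℂ) (x * (c : K))) a *
          conj (classInner (fun c : Subgroup.centralizer ({x} : Set K) =>
            (χ : K → ℂ) (x * (c : K))) a') = classInner a' a := by
  set R := Finset.univ.filter fun w : Subgroup.centralizer ({x} : Set K) => ¬ p ∣ orderOf w with hR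
  set n : ℂ := (Nat.card (Subgroup.centralizer ({x} : Set K)) : ℂ) with hn
  have hn0 : n ≠ 0 := Nat.cast_ne_zero.2 Nat.card_pos.ne'
  have hinner : ∀ w ∈ R, ∑ w' ∈ R, a' w' *
      ∑ χ : IrrCharacter K, (χ : K → ℂ) (x * (w : K)) * conj ((χ : K → ℂ) (x * (w' : K))) =
        n * a' w := by
    intro w hw
    have hwr : ¬ p ∣ orderOf w := (Finset.mem_filter.1 hw).2
    have hmaps : ∀ c ∈ (Finset.univ : Finset (Subgroup.centralizer ({x} : Set K))),
        c * w * c⁻¹ ∈ R := fun c _ => by
      simp only [hR, Finset.mem_filter, Finset.mem_univ, true_and]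
      rwa [show c * w * c⁻¹ = MulAut.conj c w from rfl, MulEquiv.orderOf_eq]
    rw [hn, Nat.card_eq_fintype_card, ← Finset.card_univ, ← nsmul_eq_mul, ← Finset.sum_const,
      ← Finset.sum_fiberwise_of_maps_to hmaps]
    refine Finset.sum_congr rfl fun w' hw' => ?_
    rw [Char.column_orthogonality,
      ← card_conj_eq_centralizer hx hwr (Finset.mem_filter.1 hw').2,
      Finset.sum_congr rfl (g := fun _ => a' w') (fun c hc =>
        show a' w = a' w' by rw [← (Finset.mem_filter.1 hc).2, ha]),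
      Finset.sum_const, nsmul_eq_mul, mul_comm]
    congr!
  have hcut : ∀ (b : Subgroup.centralizer ({x} : Set K) → ℂ), (∀ w, p ∣ orderOf w → b w = 0) →
      ∀ χ : IrrCharacter K,
        classInner (fun c : Subgroup.centralizer ({x} : Set K) => (χ : K → ℂ) (x * (c : K))) b =
          n⁻¹ * ∑ w ∈ R, (χ : K → ℂ) (x * (w : K)) * conj (b w) := fun b hb χ => by
    rw [classInner, hR, Finset.sum_filter]
    congr 1
    refine Finset.sum_congr rfl fun w _ => ?_
    by_cases hw : p ∣ orderOf w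
    · simp [hw, hb w hw]
    · rw [if_pos hw]
  have hrhs : classInner a' a = n⁻¹ * ∑ w ∈ R, a' w * conj (a w) := by
    rw [classInner, hR, Finset.sum_filter]
    congr 1
    refine Finset.sum_congr rfl fun w _ => ?_
    by_cases hw : p ∣ orderOf w
    · simp [hw, hs w hw]
    · rw [if_pos hw]
  calc _ = (n⁻¹ * n⁻¹) * ∑ w ∈ R, conj (a w) * ∑ w' ∈ R, a' w' *
          ∑ χ : IrrCharacter K, (χ : K → ℂ) (x * (w : K)) * conj ((χ : K → ℂ) (x * (w' : K))) := by
        simp only [hcut a hs, hcut a' hs', map_mul, map_inv₀, map_natCast, hn, map_sum,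
          Complex.conj_conj, Finset.mul_sum, Finset.sum_mul]
        rw [Finset.sum_comm]
        refine ((Finset.sum_congr rfl fun w' _ => Finset.sum_comm).trans Finset.sum_comm).trans ?_
        exact Finset.sum_congr rfl fun w _ => Finset.sum_congr rfl fun w' _ =>
          Finset.sum_congr rfl fun χ _ => by ring
    _ = (n⁻¹ * n⁻¹) * ∑ w ∈ R, n * (a' w * conj (a w)) := by
        refine congrArg _ (Finset.sum_congr rfl fun w hw => ?_)
        rw [hinner w hw]
        ring
    _ = _ := by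
        rw [hrhs, ← Finset.mul_sum]
        field_simp

omit [M.IsPrime] in
/-- Orthogonality between different sections. -/
theorem sum_classInner_translate_mul_eq_zero {x y : K} (hx : ∃ k : ℕ, orderOf x = p ^ k)
    (hy : ∃ k : ℕ, orderOf y = p ^ k) (hne : ¬ IsConj x y)
    {a : Subgroup.centralizer ({x} : Set K) → ℂ} {a' : Subgroup.centralizer ({y} : Set K) → ℂ}
    (hs : ∀ w, p ∣ orderOf w → a w = 0) (hs' : ∀ w, p ∣ orderOf w → a' w = 0) :
    ∑ χ : IrrCharacter K,
        classInner (fun c : Subgroup.centralizer ({x} : Set K) => (χ : K → ℂ) (x * (c : K))) a *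
          conj (classInner (fun c : Subgroup.centralizer ({y} : Set K) =>
            (χ : K → ℂ) (y * (c : K))) a') = 0 := by
  simp only [classInner, map_mul, map_inv₀, map_natCast, map_sum, Complex.conj_conj, Finset.mul_sum,
    Finset.sum_mul]
  rw [Finset.sum_comm]
  refine Finset.sum_eq_zero fun w' _ => ?_
  rw [Finset.sum_comm]
  refine Finset.sum_eq_zero fun w _ => ?_
  by_cases hw : p ∣ orderOf w
  · simp [hs w hw]
  by_cases hw' : p ∣ orderOf w'
  · simp [hs' w' hw']
  have h : ¬ IsConj (x * (w : K)) (y * (w' : K)) := by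
    intro hc
    obtain ⟨g, hg⟩ := isConj_iff.1 hc
    obtain ⟨r, hr, hrc, hrk, hrr⟩ := isPPart_mul_of_mem_centralizer hx hw
    obtain ⟨k, hk⟩ := hrk
    have h1 : IsPPart p (y * (w' : K)) (g * x * g⁻¹) :=
      ⟨g * r * g⁻¹, by rw [← hg, ← hr]; group, hrc.map (MulAut.conj g).toMonoidHom,
        ⟨k, by rw [← hk]; exact MulEquiv.orderOf_eq (MulAut.conj g) x⟩,
        fun hd => hrr (by rwa [← MulEquiv.orderOf_eq (MulAut.conj g) r])⟩
    exact hne (isConj_iff.2
      ⟨g, pPart_unique (Fact.out : p.Prime) h1 (isPPart_mul_of_mem_centralizer hy hw')⟩)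
  have h0 := Char.column_orthogonality (x * (w : K)) (y * (w' : K))
  rw [if_neg h] at h0
  refine Eq.trans (Finset.sum_congr rfl fun χ _ => ?_) (by rw [← Finset.mul_sum, h0, mul_zero] :
    ∑ χ : IrrCharacter K, ((Nat.card (Subgroup.centralizer ({x} : Set K)) : ℂ)⁻¹ *
      (Nat.card (Subgroup.centralizer ({y} : Set K)) : ℂ)⁻¹ * conj (a w) * a' w') *
        ((χ : K → ℂ) (x * (w : K)) * conj ((χ : K → ℂ) (y * (w' : K)))) = 0)
  ring

omit [M.IsPrime] in
/-- Translates by a nontrivial `p`-element are orthogonal to the degrees. -/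
theorem sum_apply_one_mul_classInner_translate {x : K} (hx : ∃ k : ℕ, orderOf x = p ^ k)
    (hx1 : x ≠ 1) {a : Subgroup.centralizer ({x} : Set K) → ℂ}
    (hs : ∀ w, p ∣ orderOf w → a w = 0) :
    ∑ χ : IrrCharacter K, (χ : K → ℂ) 1 *
      classInner (fun c : Subgroup.centralizer ({x} : Set K) => (χ : K → ℂ) (x * (c : K))) a = 0 := by
  simp only [classInner, Finset.mul_sum]
  rw [Finset.sum_comm]
  refine Finset.sum_eq_zero fun w _ => ?_
  by_cases hw : p ∣ orderOf w
  · simp [hs w hw]
  have h : ¬ IsConj (x * (w : K)) 1 := by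
    rw [isConj_one_left]
    intro h
    have h2 : x = 1 := pPart_unique (Fact.out : p.Prime) (isPPart_mul_of_mem_centralizer hx hw)
      (by
        rw [h]
        exact isPPart_one_of_isPRegular (g := (1 : K)) (by simpa using (Fact.out : p.Prime).ne_one))
    exact hx1 h2
  have h0 := Char.column_orthogonality (x * (w : K)) 1
  rw [if_neg h] at h0
  refine Eq.trans (Finset.sum_congr rfl fun χ _ => ?_) (by rw [← Finset.mul_sum, h0, mul_zero] :
    ∑ χ : IrrCharacter K, ((Nat.card (Subgroup.centralizer ({x} : Set K)) : ℂ)⁻¹ * conj (a w)) *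
        ((χ : K → ℂ) (x * (w : K)) * conj ((χ : K → ℂ) 1)) = 0)
  rw [← Char.IsIrr.map_inv χ.2 1, inv_one]
  ring

end Orth

end CfsgLib.FreeInertial
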