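import Mathlib.Algebra.BigOperators.Ring.Finset
import Mathlib.Algebra.Order.BigOperators.Group.Finset
import Mathlib.Data.Fintype.Card
import Mathlib.Tactic.Linarith
import Mathlib.Tactic.Ring
import Mathlib.Tactic.NormNum
import Mathlib.Tactic.Push
import Mathlib.Algebra.Order.Ring.Abs
import Mathlib.Algebra.BigOperators.Group.Finset.Piecewise
import Mathlib.Tactic.LinearCombination

/-!
# Integral vectors with the inner products of `I + e J`

If `n` integral vectors have inner products `1 + e` with themselves and `e` among each other, the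
union of their supports has at most `n + e` elements.  If moreover they are orthogonal to a positive
vector and `e ≤ 3`, it has exactly `n + e` elements apart from three small exceptions.
-/

set_option autoImplicit false

namespace CfsgLib.FreeInertial

open scoped Classical

theorem chain_sum_eq (a : ℕ → ℤ) (m : ℕ) :
    2 * (∑ j ∈ Finset.range (m + 1), a j ^ 2 - ∑ j ∈ Finset.range m, a j * a (j + 1)) =
      a 0 ^ 2 + a m ^ 2 + ∑ j ∈ Finset.range m, (a (j + 1) - a j) ^ 2 := by
  induction m with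
  | zero => simp [two_mul]
  | succ m ih =>
    rw [Finset.sum_range_succ _ (m + 1), Finset.sum_range_succ (fun j => a j * a (j + 1)) m,
      Finset.sum_range_succ (fun j => (a (j + 1) - a j) ^ 2) m]
    linear_combination ih

theorem one_le_chain {a : ℕ → ℤ} {m : ℕ} (h : ∃ j ≤ m, a j ≠ 0) :
    1 ≤ ∑ j ∈ Finset.range (m + 1), a j ^ 2 - ∑ j ∈ Finset.range m, a j * a (j + 1) := by
  have he := chain_sum_eq a m
  have hnn : 0 ≤ ∑ j ∈ Finset.range m, (a (j + 1) - a j) ^ 2 :=
    Finset.sum_nonneg fun j _ => sq_nonneg _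
  by_contra hlt
  have h0 : a 0 ^ 2 = 0 := by
    have h1 := sq_nonneg (a 0)
    have h2 := sq_nonneg (a m)
    omega
  have hs : ∑ j ∈ Finset.range m, (a (j + 1) - a j) ^ 2 = 0 := by
    have h2 := sq_nonneg (a m)
    omega
  rw [Finset.sum_eq_zero_iff_of_nonneg fun j _ => sq_nonneg _] at hs
  obtain ⟨j, hj, hne⟩ := h
  refine hne ?_
  clear hne
  induction j with
  | zero => exact pow_eq_zero_iff two_ne_zero |>.1 h0
  | succ j ih =>
    have h1 := pow_eq_zero_iff two_ne_zero |>.1 (hs j (Finset.mem_range.2 hj))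
    rw [ih (by omega), sub_zero] at h1
    exact h1

theorem one_le_sq {x : ℤ} (h : x ≠ 0) : 1 ≤ x ^ 2 := by
  have := lt_of_le_of_ne (sq_nonneg x) (Ne.symm (pow_ne_zero 2 h))
  omega

/-- A short vector orthogonal to a positive vector has entries of absolute value one. -/
theorem sum_sq_eq_card {ι : Type*} {s : Finset ι} {u d : ι → ℤ} (h4 : ∑ x ∈ s, u x ^ 2 ≤ 4)
    (hd : ∀ x ∈ s, 0 < d x) (h0 : ∑ x ∈ s, d x * u x = 0) (hne : ∀ x ∈ s, u x ≠ 0) :
    ∑ x ∈ s, u x ^ 2 = s.card := by
  rw [Finset.card_eq_sum_ones, Nat.cast_sum]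
  refine Finset.sum_congr rfl fun x hx => ?_
  have h2 : u x ^ 2 < 4 := by
    by_contra h
    have hrest : ∑ y ∈ s.erase x, u y ^ 2 = 0 := by
      have := Finset.add_sum_erase s (fun y => u y ^ 2) hx
      have := Finset.sum_nonneg (fun y (_ : y ∈ s.erase x) => sq_nonneg (u y))
      omega
    rw [Finset.sum_eq_zero_iff_of_nonneg fun y _ => sq_nonneg _] at hrest
    rw [Finset.sum_eq_single x (fun y hy hyx => absurd
        (pow_eq_zero_iff two_ne_zero |>.1 (hrest y (Finset.mem_erase.2 ⟨hyx, hy⟩))) (hne y hy))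
      (fun h => absurd hx h)] at h0
    exact hne x hx ((mul_eq_zero.1 h0).resolve_left (hd x hx).ne')
  have h3 : -2 < u x ∧ u x < 2 := abs_lt.1 (by
    rw [← sq_lt_sq₀ (abs_nonneg _) (by norm_num), sq_abs]
    exact h2)
  have := hne x hx
  rcases (by omega : u x = 1 ∨ u x = -1) with e | e <;> simp [e]

/-- Vectors with the inner products of `I + e J`, supported on `S` and jointly nonzero there. -/
structure IsFamily {ι : Type*} (S : Finset ι) (n : ℕ) (e : ℤ) (v : ℕ → ι → ℤ) : Prop where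
  gram : ∀ i < n, ∀ j < n, ∑ x ∈ S, v i x * v j x = (if i = j then 1 else 0) + e
  nonzero : ∀ x ∈ S, ∃ j < n, v j x ≠ 0

variable {ι : Type*} {S : Finset ι} {n : ℕ} {e : ℤ} {v : ℕ → ι → ℤ}

theorem card_le_of_family (hn : 0 < n) (h : IsFamily S n e v) : (S.card : ℤ) ≤ n + e := by
  obtain ⟨m, rfl⟩ : ∃ m, n = m + 1 := ⟨n - 1, by omega⟩
  have hQ : ∑ x ∈ S, (∑ j ∈ Finset.range (m + 1), v j x ^ 2 -
      ∑ j ∈ Finset.range m, v j x * v (j + 1) x) = ((m + 1 : ℕ) : ℤ) + e := by
    rw [Finset.sum_sub_distrib, Finset.sum_comm,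
      Finset.sum_comm (f := fun x j => v j x * v (j + 1) x),
      Finset.sum_congr rfl (g := fun _ => (1 + e : ℤ)) fun j hj => by
        simp only [sq]
        rw [h.gram j (Finset.mem_range.1 hj) j (Finset.mem_range.1 hj), if_pos rfl],
      Finset.sum_congr rfl (s₁ := Finset.range m) (g := fun _ => (e : ℤ)) fun j hj => by
        rw [h.gram j (by have := Finset.mem_range.1 hj; omega) (j + 1)
          (by have := Finset.mem_range.1 hj; omega), if_neg (by omega), zero_add]]
    simp only [Finset.sum_const, Finset.card_range, nsmul_eq_mul]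
    push_cast
    ring
  rw [← hQ, Finset.card_eq_sum_ones, Nat.cast_sum]
  refine Finset.sum_le_sum fun x hx => ?_
  obtain ⟨j, hj, hne⟩ := h.nonzero x hx
  simpa using one_le_chain (a := fun j => v j x) (m := m) ⟨j, Nat.le_of_lt_succ hj, hne⟩

theorem sum_mul_single {c : ι} (hc : c ∈ S) (f : ι → ℤ) :
    ∑ x ∈ S, f x * (if x = c then 1 else 0) = f c := by
  simp [Finset.sum_ite_eq', hc]

theorem card_eq_of_shape {d V : ι → ℤ} {c : ℕ → ι} (hn : 2 ≤ n) (he0 : 1 ≤ e) (he : e ≤ 3)
    (h : IsFamily S n e v) (hd : ∀ x ∈ S, 0 < d x)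
    (hdv : ∀ i < n, ∑ x ∈ S, d x * v i x = 0) (hc : ∀ i < n, c i ∈ S)
    (hinj : ∀ i < n, ∀ j < n, c i = c j → i = j)
    (hV : ∀ i < n, ∀ x ∈ S, v i x = V x + if x = c i then 1 else 0) :
    (S.card : ℤ) = n + e ∨ n = 3 ∧ (e = 2 ∨ e = 3) ∨ n = 4 ∧ e = 3 := by
  have hg : ∀ i < n, ∀ j < n, ∑ x ∈ S, v i x * v j x =
      ∑ x ∈ S, V x ^ 2 + V (c i) + V (c j) + (if i = j then 1 else 0) := by
    intro i hi j hj
    have hij : (if c i = c j then (1 : ℤ) else 0) = if i = j then 1 else 0 := by
      by_cases hne : i = j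
      · rw [if_pos hne, if_pos (by rw [hne])]
      · rw [if_neg hne, if_neg fun hh => hne (hinj i hi j hj hh)]
    rw [← hij, Finset.sum_congr rfl (g := fun x => V x ^ 2 + V x * (if x = c i then 1 else 0) +
      V x * (if x = c j then 1 else 0) + (if x = c j then 1 else 0) * (if x = c i then 1 else 0))
      fun x hx => by rw [hV i hi x hx, hV j hj x hx]; ring]
    rw [Finset.sum_add_distrib, Finset.sum_add_distrib, Finset.sum_add_distrib,
      sum_mul_single (hc i hi), sum_mul_single (hc j hj),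
      sum_mul_single (hc i hi) (fun x => if x = c j then 1 else 0)]
  have hsq : ∀ i < n, ∑ x ∈ S, V x ^ 2 + 2 * V (c i) = e := by
    intro i hi
    have h1 := hg i hi i hi
    rw [h.gram i hi i hi, if_pos rfl] at h1
    omega
  have hdc : ∀ i < n, ∑ x ∈ S, d x * V x + d (c i) = 0 := by
    intro i hi
    rw [← hdv i hi, ← sum_mul_single (hc i hi) d, ← Finset.sum_add_distrib]
    exact Finset.sum_congr rfl fun x hx => by rw [hV i hi x hx, mul_add]
  set a := V (c 0) with ha
  set D := d (c 0) with hD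
  have hVc : ∀ i < n, V (c i) = a := fun i hi => by
    have := hsq i hi
    have := hsq 0 (by omega)
    omega
  have hdD : ∀ i < n, d (c i) = D := fun i hi => by
    have := hdc i hi
    have := hdc 0 (by omega)
    omega
  let C := (Finset.range n).image c
  have hCS : C ⊆ S := Finset.image_subset_iff.2 fun i hi => hc i (Finset.mem_range.1 hi)
  have hCcard : C.card = n := by
    rw [Finset.card_image_of_injOn fun i hi j hj => hinj i (Finset.mem_range.1 hi) j
      (Finset.mem_range.1 hj), Finset.card_range]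
  have hsum : ∀ f : ι → ℤ, ∑ x ∈ S, f x = ∑ i ∈ Finset.range n, f (c i) + ∑ x ∈ S \ C, f x := by
    intro f
    rw [← Finset.sum_sdiff hCS, add_comm, Finset.sum_image fun i hi j hj => hinj i
      (Finset.mem_range.1 hi) j (Finset.mem_range.1 hj)]
  have hR : (n : ℤ) * a ^ 2 + ∑ x ∈ S \ C, V x ^ 2 + 2 * a = e := by
    have h1 := hsq 0 (by omega)
    rw [hsum, Finset.sum_congr rfl (g := fun _ => a ^ 2) fun i hi => by
      rw [hVc i (Finset.mem_range.1 hi)], Finset.sum_const, Finset.card_range, nsmul_eq_mul,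
      hVc 0 (by omega)] at h1
    exact h1
  have hdR : (n : ℤ) * (D * a) + ∑ x ∈ S \ C, d x * V x + D = 0 := by
    have h1 := hdc 0 (by omega)
    rw [hsum, Finset.sum_congr rfl (g := fun _ => D * a) fun i hi => by
      rw [hVc i (Finset.mem_range.1 hi), hdD i (Finset.mem_range.1 hi)], Finset.sum_const,
      Finset.card_range, nsmul_eq_mul, hdD 0 (by omega)] at h1
    exact h1
  have hne : ∀ x ∈ S \ C, V x ≠ 0 := by
    intro x hx h0
    obtain ⟨hxS, hxC⟩ := Finset.mem_sdiff.1 hx
    obtain ⟨j, hj, hv⟩ := h.nonzero x hxS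
    refine hv ?_
    rw [hV j hj x hxS, h0, if_neg fun hh => hxC (Finset.mem_image.2
      ⟨j, Finset.mem_range.2 hj, hh.symm⟩), add_zero]
  have hlow : ((S \ C).card : ℤ) ≤ ∑ x ∈ S \ C, V x ^ 2 := by
    rw [Finset.card_eq_sum_ones, Nat.cast_sum]
    exact Finset.sum_le_sum fun x hx => by simpa using one_le_sq (hne x hx)
  have hpos : 1 ≤ (S \ C).card := by
    by_contra h0
    rw [Finset.card_eq_zero.1 (by omega : (S \ C).card = 0), Finset.sum_empty, add_zero] at hdR
    have hDpos : 0 < D := hd _ (hc 0 (by omega))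
    have hn' : (2 : ℤ) ≤ n := by exact_mod_cast hn
    rcases (show a ≤ -1 ∨ 0 ≤ a by omega) with ha1 | ha0
    · have h1 : (n : ℤ) * a + 1 < 0 := by nlinarith
      linarith [mul_neg_of_pos_of_neg hDpos h1]
    · nlinarith [mul_nonneg (mul_nonneg (by linarith : (0 : ℤ) ≤ n) hDpos.le) ha0]
  have hcard : (S.card : ℤ) = n + (S \ C).card := by
    rw [← Finset.card_sdiff_add_card_eq_card hCS, hCcard]
    push_cast
    ring
  have hsmall : ∀ r : ℤ, ∑ x ∈ S \ C, V x ^ 2 = r → r ≤ 3 → ((S \ C).card : ℤ) = r := by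
    intro r hr hr3
    rw [← hr, Finset.card_eq_sum_ones, Nat.cast_sum]
    refine Finset.sum_congr rfl fun x hx => ?_
    have h1 := one_le_sq (hne x hx)
    have h2 : V x ^ 2 ≤ ∑ y ∈ S \ C, V y ^ 2 :=
      Finset.single_le_sum (f := fun y => V y ^ 2) (fun y _ => sq_nonneg _) hx
    have h3 : -2 < V x ∧ V x < 2 := abs_lt.1 (by
      rw [← sq_lt_sq₀ (abs_nonneg _) (by norm_num), sq_abs]
      omega)
    have := hne x hx
    rcases (by omega : V x = 1 ∨ V x = -1) with e | e <;> simp [e]
  have hpos' : (1 : ℤ) ≤ (S \ C).card := by exact_mod_cast hpos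
  rcases (show a = 0 ∨ a = -1 ∨ 1 ≤ a ∨ a ≤ -2 by omega) with h0 | h0 | h0 | h0
  · left
    rw [h0] at hR
    have := hsmall e (by linarith) he
    omega
  · rw [h0] at hR
    have := hsmall (e - n + 2) (by linarith) (by omega)
    omega
  · nlinarith
  · nlinarith

/-- Two entries of a vector of norm two orthogonal to a positive vector. -/
theorem exists_pair {u d : ι → ℤ} (hu : ∑ x ∈ S, u x ^ 2 = 2) (hd : ∀ x ∈ S, 0 < d x)
    (h0 : ∑ x ∈ S, d x * u x = 0) :
    ∃ a ∈ S, ∃ b ∈ S, a ≠ b ∧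
      ∀ x ∈ S, u x = (if x = a then 1 else 0) - if x = b then 1 else 0 := by
  let s := S.filter fun x => u x ≠ 0
  have hs2 : ∑ x ∈ s, u x ^ 2 = 2 := by
    rw [← hu]
    exact Finset.sum_subset (Finset.filter_subset _ _) fun x hx hxs => by
      rw [not_not.1 fun hne => hxs (Finset.mem_filter.2 ⟨hx, hne⟩)]
      simp
  have hs0 : ∑ x ∈ s, d x * u x = 0 := by
    rw [← h0]
    exact Finset.sum_subset (Finset.filter_subset _ _) fun x hx hxs => by
      rw [not_not.1 fun hne => hxs (Finset.mem_filter.2 ⟨hx, hne⟩), mul_zero]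
  have hc := sum_sq_eq_card (s := s) (by omega) (fun x hx => hd x (Finset.mem_filter.1 hx).1) hs0
    fun x hx => (Finset.mem_filter.1 hx).2
  obtain ⟨a, b, hab, hs⟩ := Finset.card_eq_two.1 (show s.card = 2 by omega)
  have ha : a ∈ S ∧ u a ≠ 0 := Finset.mem_filter.1 (show a ∈ s by simp [hs])
  have hb : b ∈ S ∧ u b ≠ 0 := Finset.mem_filter.1 (show b ∈ s by simp [hs])
  rw [hs, Finset.sum_pair hab] at hs2 hs0
  have hone : ∀ {x y : ℤ}, x ≠ 0 → 1 ≤ y → x ^ 2 + y = 2 → x = 1 ∨ x = -1 := by
    intro x y hx hy hxy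
    have := one_le_sq hx
    exact sq_eq_one_iff.1 (by omega)
  have key : ∀ (a b : ι), a ∈ S → b ∈ S → a ≠ b → s = {a, b} → u a = 1 → u b = -1 →
      ∃ a ∈ S, ∃ b ∈ S, a ≠ b ∧
        ∀ x ∈ S, u x = (if x = a then 1 else 0) - if x = b then 1 else 0 := by
    intro a b ha hb hab hs hua hub
    refine ⟨a, ha, b, hb, hab, fun x hx => ?_⟩
    by_cases h1 : x = a
    · subst h1
      rw [if_pos rfl, if_neg hab, hua, sub_zero]
    by_cases h2 : x = b
    · subst h2
      rw [if_pos rfl, if_neg h1, hub, zero_sub]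
    rw [if_neg h1, if_neg h2, sub_zero]
    by_contra hne
    have : x ∈ s := Finset.mem_filter.2 ⟨hx, hne⟩
    simp [hs, h1, h2] at this
  have hda := hd a ha.1
  have hdb := hd b hb.1
  rcases hone ha.2 (one_le_sq hb.2) hs2 with ea | ea <;>
    rcases hone hb.2 (one_le_sq ha.2) (by rw [add_comm]; exact hs2) with eb | eb
  · rw [ea, eb] at hs0; omega
  · exact key a b ha.1 hb.1 hab hs ea eb
  · exact key b a hb.1 ha.1 hab.symm (by rw [hs, Finset.pair_comm]) eb ea
  · rw [ea, eb] at hs0; omega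

theorem card_eq_of_family {d : ι → ℤ} (hn : 0 < n) (he0 : 1 ≤ e) (he : e ≤ 3)
    (h : IsFamily S n e v) (hd : ∀ x ∈ S, 0 < d x) (hdv : ∀ i < n, ∑ x ∈ S, d x * v i x = 0) :
    (S.card : ℤ) = n + e ∨ n = 3 ∧ (e = 2 ∨ e = 3) ∨ n = 4 ∧ e = 3 := by
  rcases (show n = 1 ∨ 2 ≤ n by omega) with hn1 | hn2
  · left
    subst hn1
    have hne : ∀ x ∈ S, v 0 x ≠ 0 := fun x hx => by
      obtain ⟨j, hj, hne⟩ := h.nonzero x hx
      rwa [Nat.lt_one_iff.1 hj] at hne
    have hg : ∑ x ∈ S, v 0 x ^ 2 = 1 + e := by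
      simp only [sq]
      rw [h.gram 0 hn 0 hn, if_pos rfl]
    rw [← sum_sq_eq_card (by omega) hd (hdv 0 hn) hne, hg]
    rfl
  have hdiff : ∀ i, 0 < i → i < n → ∃ a ∈ S, ∃ b ∈ S, a ≠ b ∧
      ∀ x ∈ S, v 0 x - v i x = (if x = a then 1 else 0) - if x = b then 1 else 0 := by
    intro i hi0 hi
    refine exists_pair ?_ hd ?_
    · rw [Finset.sum_congr rfl (g := fun x => v 0 x * v 0 x - v 0 x * v i x - v i x * v 0 x +
        v i x * v i x) fun x _ => by ring, Finset.sum_add_distrib, Finset.sum_sub_distrib,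
        Finset.sum_sub_distrib, h.gram 0 hn 0 hn, h.gram 0 hn i hi, h.gram i hi 0 hn,
        h.gram i hi i hi, if_pos rfl, if_neg (by omega), if_neg (by omega), if_pos rfl]
      ring
    · simp only [mul_sub]
      rw [Finset.sum_sub_distrib, hdv 0 hn, hdv i hi, sub_zero]
  obtain ⟨x0, -⟩ : S.Nonempty := by
    refine Finset.nonempty_of_sum_ne_zero (f := fun x => v 0 x * v 0 x) ?_
    rw [h.gram 0 hn 0 hn, if_pos rfl]
    omega
  have : Nonempty ι := ⟨x0⟩
  choose! A hA Bf hBf hAB hform using hdiff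
  have hpair : ∀ i, 0 < i → i < n → ∀ j, 0 < j → j < n → i ≠ j →
      (A i = A j ∨ Bf i = Bf j) ∧ ¬ (A i = A j ∧ Bf i = Bf j) := by
    intro i hi0 hi j hj0 hj hij
    have h1 : ∑ x ∈ S, (v 0 x - v i x) * (v 0 x - v j x) = 1 := by
      rw [Finset.sum_congr rfl (g := fun x => v 0 x * v 0 x - v 0 x * v j x - v i x * v 0 x +
        v i x * v j x) fun x _ => by ring, Finset.sum_add_distrib, Finset.sum_sub_distrib,
        Finset.sum_sub_distrib, h.gram 0 hn 0 hn, h.gram 0 hn j hj, h.gram i hi 0 hn,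
        h.gram i hi j hj, if_pos rfl, if_neg (by omega), if_neg (by omega), if_neg hij]
      ring
    rw [Finset.sum_congr rfl (g := fun x =>
      (v 0 x - v i x) * (if x = A j then 1 else 0) -
        (v 0 x - v i x) * (if x = Bf j then 1 else 0)) fun x hx => by
        rw [hform j hj0 hj x hx, mul_sub], Finset.sum_sub_distrib,
      sum_mul_single (hA j hj0 hj), sum_mul_single (hBf j hj0 hj),
      hform i hi0 hi _ (hA j hj0 hj), hform i hi0 hi _ (hBf j hj0 hj)] at h1
    have hi' := hAB i hi0 hi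
    have hj' := hAB j hj0 hj
    by_cases e1 : A i = A j <;> by_cases e2 : Bf i = Bf j
    · rw [if_pos e1.symm, if_neg (by rw [e2]; exact hj'), if_neg (by rw [e1]; exact Ne.symm hj'),
        if_pos e2.symm] at h1
      norm_num at h1
    · exact ⟨Or.inl e1, fun hh => e2 hh.2⟩
    · exact ⟨Or.inr e2, fun hh => e1 hh.1⟩
    · rw [if_neg (Ne.symm e1), if_neg (Ne.symm e2)] at h1
      exfalso
      split_ifs at h1 <;> omega
  have halt : (∀ i, 0 < i → i < n → A i = A 1) ∨ (∀ i, 0 < i → i < n → Bf i = Bf 1) := by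
    by_contra hc
    push_neg at hc
    obtain ⟨⟨i, hi0, hi, hiA⟩, ⟨j, hj0, hj, hjB⟩⟩ := hc
    have h1 := (hpair i hi0 hi 1 one_pos (by omega) (fun hh => hiA (by rw [hh]))).1.resolve_left hiA
    have h2 := (hpair j hj0 hj 1 one_pos (by omega) (fun hh => hjB (by rw [hh]))).1.resolve_right hjB
    rcases (hpair i hi0 hi j hj0 hj (fun hh => hjB (by rw [← hh]; exact h1))).1 with hh | hh
    · exact hiA (hh.trans h2)
    · exact hjB (hh ▸ h1)
  rcases halt with hA1 | hB1
  · refine card_eq_of_shape (c := fun i => if i = 0 then A 1 else Bf i)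
      (V := fun x => v 0 x - if x = A 1 then 1 else 0) hn2 he0 he h hd hdv (fun i hi => ?_)
      (fun i hi j hj hij => ?_) fun i hi x hx => ?_
    · show (if i = 0 then A 1 else Bf i) ∈ S
      split_ifs with hi0
      · exact hA 1 one_pos (by omega)
      · exact hBf i (by omega) hi
    · by_contra hne
      split_ifs at hij with h0i h0j h0j
      · omega
      · exact hAB j (by omega) hj ((hA1 j (by omega) hj).trans hij)
      · exact hAB i (by omega) hi ((hA1 i (by omega) hi).trans hij.symm)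
      · exact (hpair i (by omega) hi j (by omega) hj hne).2
          ⟨(hA1 i (by omega) hi).trans (hA1 j (by omega) hj).symm, hij⟩
    · by_cases hi0 : i = 0
      · subst hi0
        rw [if_pos rfl]
        ring
      · rw [if_neg hi0]
        have h1 := hform i (by omega) hi x hx
        rw [hA1 i (by omega) hi] at h1
        linear_combination -h1
  · refine card_eq_of_shape (v := fun i x => -v i x) (c := fun i => if i = 0 then Bf 1 else A i)
      (V := fun x => -v 0 x - if x = Bf 1 then 1 else 0) hn2 he0 he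
      ⟨fun i hi j hj => ?_, fun x hx => ?_⟩ hd (fun i hi => ?_) (fun i hi => ?_)
      (fun i hi j hj hij => ?_) fun i hi x hx => ?_
    · simp only [neg_mul_neg]
      exact h.gram i hi j hj
    · obtain ⟨j, hj, hne⟩ := h.nonzero x hx
      exact ⟨j, hj, neg_ne_zero.2 hne⟩
    · simp only [mul_neg, Finset.sum_neg_distrib, hdv i hi, neg_zero]
    · show (if i = 0 then Bf 1 else A i) ∈ S
      split_ifs with hi0
      · exact hBf 1 one_pos (by omega)
      · exact hA i (by omega) hi
    · by_contra hne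
      split_ifs at hij with h0i h0j h0j
      · omega
      · exact hAB j (by omega) hj ((hB1 j (by omega) hj).trans hij).symm
      · exact hAB i (by omega) hi (((hB1 i (by omega) hi).trans hij.symm).symm)
      · exact (hpair i (by omega) hi j (by omega) hj hne).2
          ⟨hij, (hB1 i (by omega) hi).trans (hB1 j (by omega) hj).symm⟩
    · by_cases hi0 : i = 0
      · subst hi0
        rw [if_pos rfl]
        ring
      · rw [if_neg hi0]
        have h1 := hform i (by omega) hi x hx
        rw [hB1 i (by omega) hi] at h1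
        linear_combination h1

end CfsgLib.FreeInertial
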