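import Cfsg.Agent.Lib.Blocks.FreeInertial.Signs
import Cfsg.Agent.Lib.Blocks.FreeInertial.Lattice
import Cfsg.Agent.Lib.Blocks.CyclicRank.Setting

/-!
# Blocks with free inertial action: the counts

With `e` the order of the inertial group and `n = (|P| - 1) / e` the block has `l + n` characters
for its rank `l`, at most `n + e` characters, and exactly `n + e` if `e ≤ 3`.
-/

set_option autoImplicit false

namespace CfsgLib.FreeInertial

open Cfsg CfsgLib.Blocks CfsgLib.Pairs CfsgLib.Star CfsgLib.Watanabe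
open scoped Classical ComplexConjugate IsMulCommutative

variable {G : Type*} [Group G] [Fintype G] {p : ℕ} [Fact p.Prime] {M : Ideal AlgInt} [M.IsPrime]
  {B : Set (IrrCharacter G)} {P : Subgroup G}
  {c : Set (IrrCharacter (Subgroup.centralizer (P : Set G)))}

section Dual

variable {A : Type*} [CommGroup A] [Fintype A]

/-- The pullback of a linear character along an automorphism. -/
def pull (σ : MulAut A) (l : A →* ℂˣ) : A →* ℂˣ := l.comp σ.toMonoidHom

omit [Fintype A] in
theorem pull_apply (σ : MulAut A) (l : A →* ℂˣ) (a : A) : pull σ l a = l (σ a) := rfl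

omit [Fintype A] in
theorem pull_mul (σ τ : MulAut A) (l : A →* ℂˣ) : pull (σ * τ) l = pull τ (pull σ l) :=
  MonoidHom.ext fun _ => rfl

omit [Fintype A] in
theorem pull_one (l : A →* ℂˣ) : pull (1 : MulAut A) l = l := MonoidHom.ext fun _ => rfl

omit [Fintype A] in
theorem pull_ne_one (σ : MulAut A) {l : A →* ℂˣ} (hl : l ≠ 1) : pull σ l ≠ 1 := fun h => hl (by
  rw [← pull_one l, ← mul_inv_cancel σ, pull_mul, h]
  exact MonoidHom.ext fun _ => rfl)

/-- An automorphism without nontrivial fixed points fixes no nontrivial linear character. -/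
theorem eq_one_of_pull_eq {σ : MulAut A} (hσ : ∀ a, σ a = a → a = 1) {l : A →* ℂˣ}
    (hl : pull σ l = l) : l = 1 := by
  have hinj : Function.Injective fun a : A => σ a * a⁻¹ := fun a b h => by
    refine mul_inv_eq_one.1 (hσ (a * b⁻¹) ?_)
    simp only [← div_eq_mul_inv] at h ⊢
    rw [map_div]
    exact div_eq_div_iff_div_eq_div.1 h
  refine MonoidHom.ext fun b => ?_
  obtain ⟨a, ha⟩ := (Finite.injective_iff_surjective.1 hinj) b
  rw [← ha, map_mul, map_inv, ← pull_apply, hl, mul_inv_cancel, MonoidHom.one_apply]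

/-- Representatives for a free action on the nontrivial linear characters. -/
theorem exists_reps {E : Subgroup (MulAut A)} (hE : ∀ σ ∈ E, σ ≠ 1 → ∀ a, σ a = a → a = 1) :
    ∃ (n : ℕ) (lam : ℕ → (A →* ℂˣ)), n * Nat.card E + 1 = Nat.card A ∧
      (∀ j < n, lam j ≠ 1) ∧
      (∀ i < n, ∀ j < n, ∀ σ ∈ E, pull σ (lam j) = lam i → i = j ∧ σ = 1) ∧
      ∀ l : A →* ℂˣ, l ≠ 1 → ∃ j < n, ∃ σ ∈ E, pull σ (lam j) = l := by
  let X := {l : A →* ℂˣ // l ≠ 1}
  have hfin : Finite (A →* ℂˣ) := by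
    refine Nat.finite_of_card_ne_zero ?_
    rw [CommGroup.card_monoidHom_of_hasEnoughRootsOfUnity A ℂ]
    exact Nat.card_pos.ne'
  let s : Setoid X := ⟨fun a b => ∃ σ ∈ E, pull σ a.1 = b.1,
    fun a => ⟨1, one_mem E, pull_one _⟩, fun {a b} ⟨σ, hσ, h⟩ => ⟨σ⁻¹, inv_mem hσ, by
      rw [← h, ← pull_mul, mul_inv_cancel, pull_one]⟩,
    fun {a b c} ⟨σ, hσ, h⟩ ⟨τ, hτ, h'⟩ => ⟨σ * τ, mul_mem hσ hτ, by rw [pull_mul, h, h']⟩⟩
  have := Fintype.ofFinite (Quotient s)
  let eq := Fintype.equivFin (Quotient s)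
  set n := Fintype.card (Quotient s) with hn
  let lam : ℕ → (A →* ℂˣ) := fun j => if h : j < n then (eq.symm ⟨j, h⟩).out.1 else 1
  have hlam : ∀ j (h : j < n), lam j = (eq.symm ⟨j, h⟩).out.1 := fun j h => dif_pos h
  have huniq : ∀ q q' : Quotient s, ∀ σ ∈ E, pull σ q.out.1 = q'.out.1 → q = q' ∧ σ = 1 := by
    intro q q' σ hσ h
    have hq : q = q' := by
      rw [← q.out_eq, ← q'.out_eq]
      exact Quotient.sound ⟨σ, hσ, h⟩
    subst hq
    refine ⟨rfl, ?_⟩
    by_contra h1
    exact q.out.2 (eq_one_of_pull_eq (hE σ hσ h1) h)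
  refine ⟨n, lam, ?_, fun j hj => by rw [hlam j hj]; exact (eq.symm ⟨j, hj⟩).out.2,
    fun i hi j hj σ hσ h => ?_, fun l hl => ?_⟩
  · have hbij : Function.Bijective fun x : Quotient s × E =>
        (⟨pull x.2.1 x.1.out.1, pull_ne_one _ x.1.out.2⟩ : X) := by
      refine ⟨fun a b h => ?_, fun l => ?_⟩
      · have h' : pull a.2.1 a.1.out.1 = pull b.2.1 b.1.out.1 := congrArg Subtype.val h
        obtain ⟨h1, h2⟩ := huniq a.1 b.1 (a.2.1 * b.2.1⁻¹) (mul_mem a.2.2 (inv_mem b.2.2)) (by
          rw [pull_mul, h', ← pull_mul, mul_inv_cancel, pull_one])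
        exact Prod.ext h1 (Subtype.ext (mul_inv_eq_one.1 h2))
      · obtain ⟨σ, hσ, h⟩ := Quotient.mk_out (s := s) l
        exact ⟨⟨⟦l⟧, ⟨σ, hσ⟩⟩, Subtype.ext h⟩
    have h1 := Nat.card_congr (Equiv.ofBijective _ hbij)
    rw [Nat.card_prod, Nat.card_eq_fintype_card (α := Quotient s), ← hn] at h1
    have h2 : Nat.card X + 1 = Nat.card A := by
      rw [← CommGroup.card_monoidHom_of_hasEnoughRootsOfUnity A ℂ,
        ← Nat.card_congr (Equiv.optionSubtypeNe (1 : A →* ℂˣ)), Finite.card_option]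
    rw [h1]
    exact h2
  · rw [hlam i hi, hlam j hj] at h
    obtain ⟨h1, h2⟩ := huniq _ _ σ hσ h
    have := congrArg (fun x : Fin n => (x : ℕ)) (eq.symm.injective h1)
    exact ⟨this.symm, h2⟩
  · obtain ⟨σ, hσ, h⟩ := Quotient.mk_out (s := s) ⟨l, hl⟩
    refine ⟨eq ⟦⟨l, hl⟩⟧, (eq _).2, σ, hσ, ?_⟩
    rw [hlam _ (eq _).2, Fin.eta, Equiv.symm_apply_apply]
    exact h

end Dual

variable [hPab : IsMulCommutative ↥P] (hf : IsFree p M B P c)
include hf

theorem dfun_eq_zero {χ : IrrCharacter G} (hχ : χ ∉ B) {u : P} (hu : u ≠ 1) :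
    dfun p M P c χ u = 0 :=
  dval_eq_zero_of_not_mem hf u.2 (fun h => hu (Subtype.ext h)) hχ

theorem dfun_ne_zero {χ : IrrCharacter G} (hχ : χ ∈ B) {u : P} (hu : u ≠ 1) :
    dfun p M P c χ u ≠ 0 := by
  have hM := hf.modular
  have hS : Subgroup.zpowers (u : G) ≤ P := Subgroup.zpowers_le.2 u.2
  have hS1 : Subgroup.zpowers (u : G) ≠ ⊥ :=
    Subgroup.zpowers_ne_bot.2 fun h => hu (Subtype.ext h)
  obtain ⟨-, hreg, -, -⟩ := below_shape hf hS hS1
  obtain ⟨ξ, hξ⟩ := IsPBlock.nonempty (below_isPBlock hf hS)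
  have hcu : (u : G) ∈ Subgroup.centralizer (P : Set G) :=
    Subgroup.mem_centralizer_iff.2 fun x hx => comm_of_isMulCommutative x hx u u.2
  obtain ⟨y, hy, hne⟩ := exists_part_ne_zero_major hM (exists_pow_eq hf u.2)
    (centralizer_singleton_eq (u : G)).symm (isInducedBlock_of_pairOf hM (below_pairOf hf hS))
    (blockDefect_eq_of_central hM hf.maximal hcu (below_spec hf hS)) hχ
  intro h0
  refine hne ?_
  rw [blockPart_eq, finsum_mem_eq_finite_toFinset_sum _ (Set.toFinite _),
    Finset.sum_congr rfl (g := fun η : IrrCharacter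
        (Subgroup.centralizer (Subgroup.zpowers (u : G) : Set G)) =>
      classInner (fun w : Subgroup.centralizer (Subgroup.zpowers (u : G) : Set G) =>
        (χ : G → ℂ) ((u : G) * (w : G)))
          (η : Subgroup.centralizer (Subgroup.zpowers (u : G) : Set G) → ℂ) *
        (ξ : Subgroup.centralizer (Subgroup.zpowers (u : G) : Set G) → ℂ) y)
      fun η hη => by rw [hreg η ((Set.Finite.mem_toFinset _).1 hη) ξ hξ y hy],
    ← Finset.sum_mul]
  rw [dfun, dval] at h0
  rw [h0, zero_mul]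

theorem exists_inertAut_iff {u w : P} :
    (∃ t ∈ pairStab P c, t * (u : G) * t⁻¹ = w) ↔ ∃ σ ∈ inertAut P c, σ u = w := by
  constructor
  · rintro ⟨t, ht, htw⟩
    obtain ⟨σ, hσ, hσe⟩ := exists_mem_inertAut ht
    exact ⟨σ, hσ, Subtype.ext ((hσe u).trans htw)⟩
  · rintro ⟨σ, hσ, rfl⟩
    obtain ⟨t, ht, hte⟩ := exists_of_mem_inertAut hσ
    exact ⟨t, ht, (hte u).symm⟩

theorem inertAut_apply_injective {u : P} (hu : u ≠ 1) :
    Function.Injective fun σ : inertAut P c => (σ : MulAut P) u := fun σ τ h => by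
  refine Subtype.ext (inv_mul_eq_one.1 (inertAut_free hf (mul_mem (inv_mem σ.2) τ.2) hu ?_))
  show (σ : MulAut P).symm ((τ : MulAut P) u) = u
  rw [← show (σ : MulAut P) u = (τ : MulAut P) u from h, MulEquiv.symm_apply_apply]

theorem orbitSize_eq {u : P} (hu : u ≠ 1) :
    orbitSize P c (u : G) = Nat.card (inertAut P c) := by
  refine (Nat.card_congr (Equiv.ofBijective
    (fun σ : inertAut P c => (⟨(σ : MulAut P) u,
      (exists_inertAut_iff hf).2 ⟨σ, σ.2, rfl⟩⟩ :
        {w : P // ∃ t ∈ pairStab P c, t * (u : G) * t⁻¹ = (w : G)}))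
    ⟨fun σ τ h => inertAut_apply_injective hf hu (congrArg Subtype.val h), fun w => ?_⟩)).symm
  obtain ⟨σ, hσ, h⟩ := (exists_inertAut_iff hf).1 w.2
  exact ⟨⟨σ, hσ⟩, Subtype.ext h⟩

/-- The number of characters is the rank plus the number of orbits. -/
theorem card_eq_rank_add {n : ℕ} (hn : n * Nat.card (inertAut P c) + 1 = Nat.card P) :
    Nat.card B = blockRank p B + n := by
  have hab : ∀ x ∈ P, ∀ y ∈ P, x * y = y * x := comm_of_isMulCommutative
  have h := card_eq_sum hf.modular hf.maximal hab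
  rw [← Finset.add_sum_erase _ _ (Finset.mem_univ (1 : P))] at h
  have h1 : orbitSize P c ((1 : P) : G) = 1 := by
    refine Nat.card_eq_one_iff_unique.2 ⟨⟨fun a b => Subtype.ext ?_⟩,
      ⟨⟨1, 1, one_mem _, by simp⟩⟩⟩
    obtain ⟨t, -, ha⟩ := a.2
    obtain ⟨t', -, hb⟩ := b.2
    simp only [OneMemClass.coe_one, mul_one, mul_inv_cancel] at ha hb
    exact Subtype.ext (ha.symm.trans hb)
  rw [h1, Subgroup.coe_one, Subgroup.zpowers_one_eq_bot, localRank_bot hf.modular hf.maximal,
    Nat.cast_one, div_one, Finset.sum_congr rfl (g := fun _ =>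
      (1 : ℂ) / (Nat.card (inertAut P c) : ℂ)) fun v hv => by
      have hv1 := (Finset.mem_erase.1 hv).1
      rw [orbitSize_eq hf hv1, (below_shape hf (Subgroup.zpowers_le.2 v.2)
        (Subgroup.zpowers_ne_bot.2 fun hh => hv1 (Subtype.ext hh))).2.2.2, Nat.cast_one],
    Finset.sum_const, Finset.card_erase_of_mem (Finset.mem_univ _), Finset.card_univ,
    ← Nat.card_eq_fintype_card, ← hn, Nat.add_sub_cancel, nsmul_eq_mul, Nat.cast_mul,
    mul_one_div, mul_div_assoc,
    div_self (Nat.cast_ne_zero.2 (Nat.card_pos (α := inertAut P c)).ne'), mul_one] at h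
  exact_mod_cast h

/-- Integral vectors with inner products `I + e J` orthogonal to the degrees. -/
theorem exists_family {n : ℕ} {lam : ℕ → (P →* ℂˣ)} (hlam1 : ∀ j < n, lam j ≠ 1)
    (huniq : ∀ i < n, ∀ j < n, ∀ σ ∈ inertAut P c, pull σ (lam j) = lam i → i = j ∧ σ = 1)
    (hcov : ∀ l : P →* ℂˣ, l ≠ 1 → ∃ j < n, ∃ σ ∈ inertAut P c, pull σ (lam j) = l) :
    ∃ v : ℕ → IrrCharacter G → ℤ,
      IsFamily (Set.toFinite B).toFinset n (Nat.card (inertAut P c)) v ∧
      ∀ j < n, ∑ χ ∈ (Set.toFinite B).toFinset,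
        (charDegree (χ : G → ℂ) : ℤ) * v j χ = 0 := by
  have := Fintype.ofFinite (IrrCharacter G)
  have := Fintype.ofFinite (inertAut P c)
  have := Fintype.ofFinite (P →* ℂˣ)
  obtain ⟨ε, hε, hεinv, hgen⟩ := exists_sign_fun hf
  let D : IrrCharacter G → P → ℂ := dfun p M P c
  let K : (P →* ℂˣ) → P → ℂ := fun l u => 1 - ((l u⁻¹ : ℂˣ) : ℂ)
  let x : IrrCharacter G → (P →* ℂˣ) → ℂ := fun χ l =>
    (Nat.card P : ℂ)⁻¹ * ∑ u, K l u * ((ε u : ℂ) * D χ u)
  have hK1 : ∀ l, K l 1 = 0 := fun l => by simp [K]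
  have hint : ∀ χ l, ∃ z : ℤ, x χ l = z := by
    intro χ l
    obtain ⟨F, hF, hFe⟩ := hgen χ
    obtain ⟨a, ha⟩ := hF 1
    obtain ⟨b, hb⟩ := hF l
    refine ⟨a - b, ?_⟩
    rw [Int.cast_sub, ← ha, ← hb, coef, coef, ← mul_sub, ← Finset.sum_sub_distrib]
    show _ * _ = _ * _
    congr 1
    refine Finset.sum_congr rfl fun u _ => ?_
    by_cases hu : u = 1
    · simp [hu, hK1]
    · rw [hFe u hu]
      simp [K, D]
      ring
  choose z hz using hint
  have hzero : ∀ χ ∉ B, ∀ l, x χ l = 0 := fun χ hχ l => by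
    show _ * _ = (0 : ℂ)
    rw [Finset.sum_eq_zero fun u _ => ?_, mul_zero]
    by_cases hu : u = 1
    · simp [hu, hK1]
    · simp [D, dfun_eq_zero hf hχ hu]
  have hinv : ∀ χ l, ∀ σ ∈ inertAut P c, x χ (pull σ l) = x χ l := fun χ l σ hσ => by
    show _ * _ = _ * _
    congr 1
    refine Fintype.sum_equiv σ.toEquiv _ _ fun u => ?_
    show K (pull σ l) u * _ = K l (σ u) * ((ε (σ u) : ℂ) * D χ (σ u))
    by_cases hu : u = 1
    · simp [hu, hK1]
    · rw [hεinv σ hσ u hu]
      simp [K, D, dfun_inertAut hf hσ, pull_apply]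
  have hne : ∀ χ ∈ B, ∃ j < n, z χ (lam j) ≠ 0 := by
    intro χ hχ
    by_contra hc
    push_neg at hc
    have hall : ∀ l, x χ l = 0 := fun l => by
      by_cases hl : l = 1
      · simp [x, K, hl]
      · obtain ⟨j, hj, σ, hσ, rfl⟩ := hcov l hl
        rw [hinv χ _ σ hσ, hz, hc j hj, Int.cast_zero]
    obtain ⟨F, hF, hFe⟩ := hgen χ
    obtain ⟨u, hu⟩ := exists_ne_one hf
    have hco : ∀ l, coef F l = coef F 1 := fun l => by
      rw [eq_comm, ← sub_eq_zero, ← hall l, coef, coef, ← mul_sub, ← Finset.sum_sub_distrib]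
      show _ * _ = _ * _
      congr 1
      refine Finset.sum_congr rfl fun w _ => ?_
      by_cases hw : w = 1
      · simp [hw, hK1]
      · rw [hFe w hw]
        simp [K, D]
        ring
    have h0 := inversion F u
    rw [Finset.sum_congr rfl (g := fun l : P →* ℂˣ => coef F 1 * ((l u : ℂˣ) : ℂ))
      fun l _ => by rw [hco l], ← Finset.mul_sum, sum_apply_eq, if_neg hu, mul_zero,
      hFe u hu] at h0
    rcases mul_eq_zero.1 h0 with h | h
    · rcases hε u with e | e <;> simp [e] at h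
    · exact dfun_ne_zero hf hχ hu h
  have hgram : ∀ i < n, ∀ j < n, ∑ χ, x χ (lam i) * conj (x χ (lam j)) =
      (if i = j then 1 else 0) + (Nat.card (inertAut P c) : ℂ) := by
    intro i hi j hj
    have hN : (Nat.card P : ℂ) ≠ 0 := Nat.cast_ne_zero.2 Nat.card_pos.ne'
    have hrow : ∀ u : P, ∑ w : P, (K (lam i) u * (ε u : ℂ)) * (conj (K (lam j) w) * (ε w : ℂ)) *
        ∑ χ, D χ u * conj (D χ w) =
        (Nat.card P : ℂ) * ∑ σ : inertAut P c,
          K (lam i) u * conj (K (lam j) ((σ : MulAut P) u)) := by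
      intro u
      by_cases hu : u = 1
      · simp [hu, hK1]
      rw [Finset.sum_congr rfl (g := fun w : P =>
        if w ∈ Finset.univ.image (fun σ : inertAut P c => (σ : MulAut P) u) then
          (K (lam i) u * (ε u : ℂ)) * (conj (K (lam j) w) * (ε w : ℂ)) * (Nat.card P : ℂ) else 0)
        fun w _ => ?_, Finset.sum_ite_mem, Finset.univ_inter,
        Finset.sum_image (inertAut_apply_injective hf hu).injOn, Finset.mul_sum]
      · refine Finset.sum_congr rfl fun σ _ => ?_
        rw [hεinv σ σ.2 u hu]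
        rcases hε u with e | e <;> simp [e] <;> ring
      by_cases hw : w = 1
      · subst hw
        rw [hK1]
        simp
      have h := sum_dval_mul hf u.2 (fun h => hu (Subtype.ext h)) w.2
        (fun h => hw (Subtype.ext h))
      rw [show ∑ χ, D χ u * conj (D χ w) = _ from h]
      by_cases hex : ∃ t ∈ pairStab P c, t * (u : G) * t⁻¹ = w
      · obtain ⟨σ, hσ, hσw⟩ := (exists_inertAut_iff hf).1 hex
        rw [if_pos hex, if_pos (Finset.mem_image.2 ⟨⟨σ, hσ⟩, Finset.mem_univ _, hσw⟩)]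
      · rw [if_neg hex, if_neg, mul_zero]
        rintro hmem
        obtain ⟨σ, -, hσw⟩ := Finset.mem_image.1 hmem
        exact hex ((exists_inertAut_iff hf).2 ⟨σ, σ.2, hσw⟩)
    have hS : ∑ χ, x χ (lam i) * conj (x χ (lam j)) =
        (Nat.card P : ℂ)⁻¹ * (Nat.card P : ℂ)⁻¹ * ∑ u : P, ∑ w : P,
          (K (lam i) u * (ε u : ℂ)) * (conj (K (lam j) w) * (ε w : ℂ)) *
            ∑ χ, D χ u * conj (D χ w) := by
      simp only [x, map_mul, map_sum, map_inv₀, map_natCast, map_intCast, Finset.mul_sum,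
        Finset.sum_mul]
      rw [Finset.sum_comm, Finset.sum_congr rfl fun w _ => Finset.sum_comm, Finset.sum_comm]
      refine Finset.sum_congr rfl fun u _ => ?_
      exact Finset.sum_congr rfl fun w _ => Finset.sum_congr rfl fun χ _ => by ring
    have hσ : ∀ σ : inertAut P c, ∑ u : P, K (lam i) u * conj (K (lam j) ((σ : MulAut P) u)) =
        (Nat.card P : ℂ) * (1 + if i = j ∧ σ = 1 then 1 else 0) := by
      intro σ
      rw [Finset.sum_congr rfl (g := fun u : P => 1 - (((lam i)⁻¹ u : ℂˣ) : ℂ) -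
        ((pull σ (lam j) u : ℂˣ) : ℂ) + ((((lam i)⁻¹ * pull σ (lam j)) u : ℂˣ) : ℂ)) fun u _ => by
          simp only [K, map_sub, map_one, conj_lam, inv_inv, pull_apply]
          simp only [map_inv, MonoidHom.inv_apply, MonoidHom.mul_apply, Units.val_mul, pull_apply]
          ring,
        Finset.sum_add_distrib, Finset.sum_sub_distrib, Finset.sum_sub_distrib, sum_lam, sum_lam,
        sum_lam, if_neg fun h => hlam1 i hi (MonoidHom.ext fun v => inv_eq_one.1 (DFunLike.congr_fun h v)), if_neg (pull_ne_one _ (hlam1 j hj)),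
        Finset.sum_const, Finset.card_univ, ← Nat.card_eq_fintype_card, nsmul_one]
      have hiff : (lam i)⁻¹ * pull (σ : MulAut P) (lam j) = 1 ↔ i = j ∧ σ = 1 := by
        constructor
        · intro h
          obtain ⟨h1, h2⟩ := huniq i hi j hj σ σ.2 (MonoidHom.ext fun v =>
            (inv_mul_eq_one.1 (DFunLike.congr_fun h v)).symm)
          exact ⟨h1, Subtype.ext h2⟩
        · rintro ⟨rfl, rfl⟩
          rw [OneMemClass.coe_one, pull_one]
          exact MonoidHom.ext fun v => inv_mul_cancel _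
      simp only [hiff]
      split_ifs <;> ring
    rw [hS, Finset.sum_congr rfl fun u _ => hrow u, ← Finset.mul_sum, Finset.sum_comm,
      Finset.sum_congr rfl fun σ _ => hσ σ, ← Finset.mul_sum, Finset.sum_add_distrib]
    have hone : ∑ σ : inertAut P c, (if i = j ∧ σ = 1 then (1 : ℂ) else 0) =
        if i = j then 1 else 0 := by
      by_cases hij : i = j <;> simp [hij]
    rw [hone, Finset.sum_const, Finset.card_univ, ← Nat.card_eq_fintype_card, nsmul_one]
    field_simp
    ring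
  refine ⟨fun j χ => z χ (lam j), ⟨fun i hi j hj => ?_, fun χ hχ =>
    hne χ ((Set.Finite.mem_toFinset _).1 hχ)⟩, fun j _ => ?_⟩
  · refine Int.cast_injective (α := ℂ) ?_
    push_cast
    rw [← hgram i hi j hj]
    refine (Finset.sum_congr rfl fun χ _ => ?_).trans
      (Finset.sum_subset (Finset.subset_univ _) fun χ _ hχ => ?_)
    · rw [hz, hz, map_intCast]
    · rw [hzero χ (fun h => hχ ((Set.Finite.mem_toFinset _).2 h)), zero_mul]
  · refine Int.cast_injective (α := ℂ) ?_
    push_cast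
    rw [Finset.sum_congr rfl (g := fun χ : IrrCharacter G => (χ : G → ℂ) 1 * x χ (lam j))
      fun χ _ => by rw [hz, apply_one_eq_charDegree],
      Finset.sum_subset (Finset.subset_univ _) fun χ _ hχ => by
        rw [hzero χ (fun h => hχ ((Set.Finite.mem_toFinset _).2 h)), mul_zero]]
    simp only [x, Finset.mul_sum]
    rw [Finset.sum_comm]
    refine Finset.sum_eq_zero fun u _ => ?_
    by_cases hu : u = 1
    · simp [hu, hK1]
    rw [Finset.sum_congr rfl (g := fun χ : IrrCharacter G =>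
      (Nat.card P : ℂ)⁻¹ * K (lam j) u * (ε u : ℂ) *
        ((χ : G → ℂ) 1 * dval p M P c (Subgroup.zpowers (u : G)) u (χ : G → ℂ)))
      fun χ _ => by simp only [D, dfun]; ring,
      ← Finset.mul_sum, sum_apply_one_mul_dval hf u.2 (fun h => hu (Subtype.ext h)), mul_zero]

/-- The counts of a block with free inertial action. -/
theorem counts :
    Nat.card B = blockRank p B + (Nat.card P - 1) / Nat.card (inertAut P c) ∧
      blockRank p B ≤ Nat.card (inertAut P c) ∧
      (Nat.card (inertAut P c) ≤ 3 → blockRank p B = Nat.card (inertAut P c)) := by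
  have hM := hf.modular
  obtain ⟨n, lam, hn, hlam1, huniq, hcov⟩ := exists_reps (E := inertAut P c)
    fun σ hσ h1 a ha => by
      by_contra hne
      exact h1 (inertAut_free hf hσ hne ha)
  obtain ⟨v, hv, hvd⟩ := exists_family hf hlam1 huniq hcov
  have hk := card_eq_rank_add hf hn
  set e := Nat.card (inertAut P c) with he
  have he0 : 0 < e := Nat.card_pos
  have hn0 : 0 < n := by
    by_contra h
    rw [show n = 0 by omega, zero_mul, zero_add] at hn
    exact hf.ne_bot (Subgroup.card_eq_one.1 hn.symm)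
  have hS : ((Set.toFinite B).toFinset.card : ℤ) = (Nat.card B : ℤ) := by
    rw [Nat.card_coe_set_eq, Set.ncard_eq_toFinset_card B (Set.toFinite B)]
  have hdiv : (Nat.card P - 1) / e = n := by
    rw [← hn, Nat.add_sub_cancel, Nat.mul_div_cancel _ he0]
  have hle := card_le_of_family hn0 hv
  refine ⟨by rw [hdiv, hk], by omega, fun he3 => ?_⟩
  rcases card_eq_of_family (d := fun χ : IrrCharacter G => (charDegree (χ : G → ℂ) : ℤ)) hn0
    (by exact_mod_cast he0) (by exact_mod_cast he3) hv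
    (fun χ _ => by exact_mod_cast charDegree_pos χ) hvd with h | h
  · omega
  obtain ⟨k, hPk⟩ := IsPGroup.iff_card.1 (isPGroup_P hf)
  have h10 : Nat.card P ≠ 10 := fun h10 => by
    rw [hPk] at h10
    have h2 := (Nat.prime_dvd_prime_iff_eq Nat.prime_two hM.1).1
      (Nat.prime_two.dvd_of_dvd_pow (h10 ▸ (by norm_num : 2 ∣ 10)))
    have h5 := (Nat.prime_dvd_prime_iff_eq (by norm_num : Nat.Prime 5) hM.1).1
      ((by norm_num : Nat.Prime 5).dvd_of_dvd_pow (h10 ▸ (by norm_num : 5 ∣ 10)))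
    omega
  have hprime : Nat.card P = 7 ∨ Nat.card P = 13 := by
    rcases h with ⟨rfl, h' | h'⟩ | ⟨rfl, h'⟩
    · left
      rw [show e = 2 by omega] at hn
      omega
    · rw [show e = 3 by omega] at hn
      omega
    · right
      rw [show e = 3 by omega] at hn
      omega
  have hcyc : IsCyclic P := by
    rcases hprime with h7 | h13
    · have := Fact.mk (show Nat.Prime 7 by norm_num)
      exact isCyclic_of_prime_card h7
    · have := Fact.mk (show Nat.Prime 13 by norm_num)
      exact isCyclic_of_prime_card h13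
  rw [CfsgLib.CyclicRank.blockRank_eq_relIndex hM hf.maximal.1.2.1
    (isDefectGroup_of_maximal hM hf.maximal) hcyc hf.ne_bot hf.maximal.1]
  exact card_inertAut.symm

end CfsgLib.FreeInertial
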