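import Cfsg.Agent.Lib.CharAction.Galois
import Cfsg.Agent.Lib.Blocks.Basic
import Mathlib.GroupTheory.FiniteAbelian.Duality
import Mathlib.RingTheory.IntegralDomain
import Mathlib.Analysis.Complex.Polynomial.Basic
import Mathlib.RingTheory.RootsOfUnity.AlgebraicallyClosed
import Mathlib.NumberTheory.Basic
import Mathlib.FieldTheory.Finite.Basic
import Mathlib.LinearAlgebra.FiniteDimensional.Basic
import Mathlib.RingTheory.RootsOfUnity.Complex
import Mathlib.RingTheory.Int.Basic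

/-!
# Generalized characters of finite abelian `p`-groups

`IsGen f` says that all Fourier coefficients of `f` are integers.  For a `p`-group a generalized
character with value prime to `p` at `1` may be cancelled against algebraic integer valued
functions.
-/

set_option autoImplicit false

namespace CfsgLib.FreeInertial

open Cfsg
open scoped Classical ComplexConjugate

/-! ### Residues of algebraic integers -/

/-- The residue of an algebraic integer. -/
noncomputable def red0 (M : Ideal AlgInt) (x : ℂ) : AlgInt ⧸ M :=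
  if h : IsIntegral ℤ x then Ideal.Quotient.mk M ⟨x, h⟩ else 0

section Red

variable {M : Ideal AlgInt} {p : ℕ} (hM : IsPModular p M)

theorem red0_coe (x : AlgInt) : red0 M (x : ℂ) = Ideal.Quotient.mk M x := by
  rw [red0, dif_pos (show IsIntegral ℤ (x : ℂ) from x.2)]

theorem red0_add {x y : ℂ} (hx : IsIntegral ℤ x) (hy : IsIntegral ℤ y) :
    red0 M (x + y) = red0 M x + red0 M y := by
  rw [red0, dif_pos (hx.add hy), red0, dif_pos hx, red0, dif_pos hy, ← map_add]
  rfl

theorem red0_mul {x y : ℂ} (hx : IsIntegral ℤ x) (hy : IsIntegral ℤ y) :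
    red0 M (x * y) = red0 M x * red0 M y := by
  rw [red0, dif_pos (hx.mul hy), red0, dif_pos hx, red0, dif_pos hy, ← map_mul]
  rfl

theorem red0_intCast (n : ℤ) : red0 M (n : ℂ) = (n : AlgInt ⧸ M) := by
  rw [show (n : ℂ) = ((n : AlgInt) : ℂ) by simp, red0_coe, map_intCast]

theorem red0_one : red0 M (1 : ℂ) = 1 := by simpa using red0_intCast (M := M) 1

theorem red0_zero : red0 M (0 : ℂ) = 0 := by simpa using red0_intCast (M := M) 0

theorem isIntegral_intCast' (n : ℤ) : IsIntegral ℤ (n : ℂ) :=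
  eq_intCast (algebraMap ℤ ℂ) n ▸ isIntegral_algebraMap

theorem red0_pow {x : ℂ} (hx : IsIntegral ℤ x) (n : ℕ) : red0 M (x ^ n) = red0 M x ^ n := by
  induction n with
  | zero => simp [red0_one]
  | succ n ih => rw [pow_succ, pow_succ, red0_mul (hx.pow n) hx, ih]

theorem red0_sum {ι : Type*} (s : Finset ι) {f : ι → ℂ} (hf : ∀ i ∈ s, IsIntegral ℤ (f i)) :
    red0 M (∑ i ∈ s, f i) = ∑ i ∈ s, red0 M (f i) := by
  induction s using Finset.induction with
  | empty => simp [red0_zero]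
  | insert a s ha ih =>
    rw [Finset.sum_insert ha, Finset.sum_insert ha, red0_add (hf a (Finset.mem_insert_self a s))
      (IsIntegral.sum _ fun i hi => hf i (Finset.mem_insert_of_mem hi)),
      ih fun i hi => hf i (Finset.mem_insert_of_mem hi)]

include hM

theorem nontrivial_red : Nontrivial (AlgInt ⧸ M) :=
  Ideal.Quotient.nontrivial_iff.2 hM.2.1.ne_top

theorem charP_red : CharP (AlgInt ⧸ M) p := by
  have := nontrivial_red hM
  have := Fact.mk hM.1
  have := hM.2.1.isPrime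
  refine (CharP.charP_iff_prime_eq_zero hM.1).2 ?_
  rw [← map_natCast (Ideal.Quotient.mk M), Ideal.Quotient.eq_zero_iff_mem]
  exact hM.2.2

theorem red0_eq_zero_iff_dvd (n : ℤ) : red0 M (n : ℂ) = 0 ↔ (p : ℤ) ∣ n := by
  have := charP_red hM
  rw [red0_intCast, CharP.intCast_eq_zero_iff (AlgInt ⧸ M) p]

theorem red0_eq_one_of_pow {x : ℂ} {k : ℕ} (hx : x ^ p ^ k = 1) : red0 M x = 1 := by
  have := charP_red hM
  have := nontrivial_red hM
  have := hM.2.1.isPrime
  have := Fact.mk hM.1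
  have hi : IsIntegral ℤ x := IsIntegral.of_pow (pow_pos hM.1.pos k) (hx ▸ isIntegral_one)
  have h := red0_pow (M := M) hi (p ^ k)
  rw [hx, red0_one] at h
  rw [← sub_eq_zero]
  refine (pow_eq_zero_iff (pow_ne_zero k hM.1.ne_zero)).1 ?_
  rw [sub_pow_char_pow, one_pow, ← h, sub_self]

end Red

/-! ### Fourier coefficients -/

variable {A : Type*} [CommGroup A] [Fintype A]

/-- The multiplicity of a linear character. -/
noncomputable def coef (f : A → ℂ) (lam : A →* ℂˣ) : ℂ :=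
  (Nat.card A : ℂ)⁻¹ * ∑ a : A, ((lam a⁻¹ : ℂˣ) : ℂ) * f a

/-- All multiplicities are integers. -/
def IsGen (f : A → ℂ) : Prop := ∀ lam : A →* ℂˣ, ∃ n : ℤ, coef f lam = n

theorem card_ne_zero' : (Nat.card A : ℂ) ≠ 0 := Nat.cast_ne_zero.2 Nat.card_pos.ne'

theorem lam_isIntegral (lam : A →* ℂˣ) (a : A) : IsIntegral ℤ ((lam a : ℂˣ) : ℂ) :=
  IsIntegral.of_pow (orderOf_pos a) (by
    rw [← Units.val_pow_eq_pow_val, ← map_pow, pow_orderOf_eq_one, map_one, Units.val_one]
    exact isIntegral_one)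

theorem conj_lam (lam : A →* ℂˣ) (a : A) :
    conj ((lam a : ℂˣ) : ℂ) = ((lam a⁻¹ : ℂˣ) : ℂ) := by
  have h : ((lam a : ℂˣ) : ℂ) ^ orderOf a = 1 := by
    rw [← Units.val_pow_eq_pow_val, ← map_pow, pow_orderOf_eq_one, map_one, Units.val_one]
  have hn := Complex.norm_eq_one_of_pow_eq_one h (orderOf_pos a).ne'
  rw [map_inv, Units.val_inv_eq_inv_val, ← Complex.inv_eq_conj hn]

theorem sum_lam (lam : A →* ℂˣ) :
    ∑ a : A, ((lam a : ℂˣ) : ℂ) = if lam = 1 then (Nat.card A : ℂ) else 0 := by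
  have h := sum_hom_units ((Units.coeHom ℂ).comp lam)
  rw [show ((Units.coeHom ℂ).comp lam = 1) = (lam = 1) from propext ⟨fun h => MonoidHom.ext fun a =>
    Units.ext (DFunLike.congr_fun h a), fun h => by rw [h]; rfl⟩] at h
  simp only [MonoidHom.comp_apply, Units.coeHom_apply] at h
  rw [h, Nat.card_eq_fintype_card]
  split_ifs <;> simp

theorem coef_lam (mu lam : A →* ℂˣ) :
    coef (fun a => ((mu a : ℂˣ) : ℂ)) lam = if mu = lam then 1 else 0 := by
  have h := sum_lam (mu * lam⁻¹)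
  rw [show (mu * lam⁻¹ = 1) = (mu = lam) from propext ⟨fun h => ?_, fun h => ?_⟩] at h
  swap
  · exact mul_inv_eq_one.1 h
  swap
  · rw [h]
    exact MonoidHom.ext fun a => by simp
  rw [coef, Finset.sum_congr rfl (g := fun a => (((mu * lam⁻¹) a : ℂˣ) : ℂ)) fun a _ => by
    simp [mul_comm], h]
  split_ifs
  · exact inv_mul_cancel₀ card_ne_zero'
  · exact mul_zero _

variable [Fintype (A →* ℂˣ)]

theorem sum_apply_eq (a : A) :
    ∑ lam : A →* ℂˣ, ((lam a : ℂˣ) : ℂ) = if a = 1 then (Nat.card A : ℂ) else 0 := by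
  let ev : (A →* ℂˣ) →* ℂ :=
    { toFun := fun lam => ((lam a : ℂˣ) : ℂ), map_one' := by simp, map_mul' := by simp }
  have h := sum_hom_units ev
  have hev : (ev = 1) = (a = 1) := by
    refine propext ⟨fun h => ?_, fun h => MonoidHom.ext fun lam => by simp [ev, h]⟩
    by_contra ha
    obtain ⟨φ, hφ⟩ := CommGroup.exists_apply_ne_one_of_hasEnoughRootsOfUnity A ℂ ha
    exact hφ (Units.ext (DFunLike.congr_fun h φ))
  rw [hev, ← Nat.card_eq_fintype_card,
    CommGroup.card_monoidHom_of_hasEnoughRootsOfUnity A ℂ] at h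
  rw [show (∑ lam : A →* ℂˣ, ((lam a : ℂˣ) : ℂ)) = ∑ lam, ev lam from rfl, h]
  split_ifs <;> simp

theorem inversion (f : A → ℂ) (a : A) :
    f a = ∑ lam : A →* ℂˣ, coef f lam * ((lam a : ℂˣ) : ℂ) := by
  simp only [coef, Finset.sum_mul, Finset.mul_sum]
  rw [Finset.sum_comm, Finset.sum_eq_single a]
  · rw [Finset.sum_congr rfl (g := fun lam : A →* ℂˣ => (Nat.card A : ℂ)⁻¹ * f a) fun lam _ => by
      simp [mul_comm, mul_left_comm],
      Finset.sum_const, Finset.card_univ, ← Nat.card_eq_fintype_card,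
      CommGroup.card_monoidHom_of_hasEnoughRootsOfUnity A ℂ, nsmul_eq_mul,
      mul_inv_cancel_left₀ card_ne_zero']
  · intro b _ hb
    rw [Finset.sum_congr rfl (g := fun lam : A →* ℂˣ =>
      (Nat.card A : ℂ)⁻¹ * f b * ((lam (b⁻¹ * a) : ℂˣ) : ℂ)) fun lam _ => by simp; ring,
      ← Finset.mul_sum, sum_apply_eq, if_neg (fun h => hb (inv_mul_eq_one.1 h)), mul_zero]
  · simp

omit [Fintype (A →* ℂˣ)]

theorem coef_add (f g : A → ℂ) (lam : A →* ℂˣ) :
    coef (fun a => f a + g a) lam = coef f lam + coef g lam := by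
  simp [coef, mul_add, Finset.sum_add_distrib]

theorem coef_const_mul (c : ℂ) (f : A → ℂ) (lam : A →* ℂˣ) :
    coef (fun a => c * f a) lam = c * coef f lam := by
  simp [coef, Finset.mul_sum, mul_left_comm]

theorem coef_sum {ι : Type*} (s : Finset ι) (f : ι → A → ℂ) (lam : A →* ℂˣ) :
    coef (fun a => ∑ i ∈ s, f i a) lam = ∑ i ∈ s, coef (f i) lam := by
  simp only [coef, Finset.mul_sum]
  exact Finset.sum_comm

theorem coef_mul_lam (mu : A →* ℂˣ) (f : A → ℂ) (lam : A →* ℂˣ) :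
    coef (fun a => ((mu a : ℂˣ) : ℂ) * f a) lam = coef f (lam * mu⁻¹) := by
  simp only [coef]
  congr 1
  exact Finset.sum_congr rfl fun a _ => by simp; ring

theorem coef_conj (f : A → ℂ) (lam : A →* ℂˣ) :
    coef (fun a => conj (f a)) lam = conj (coef f lam⁻¹) := by
  simp only [coef, map_mul, map_inv₀, map_natCast, map_sum, conj_lam]
  congr 1
  exact Finset.sum_congr rfl fun a _ => by simp

theorem coef_comp (σ : A ≃* A) (f : A → ℂ) (lam : A →* ℂˣ) :
    coef (fun a => f (σ a)) lam = coef f (lam.comp σ.symm.toMonoidHom) := by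
  simp only [coef]
  congr 1
  exact Fintype.sum_equiv σ.toEquiv _ _ fun a => by simp

theorem IsGen.lam (mu : A →* ℂˣ) : IsGen fun a => ((mu a : ℂˣ) : ℂ) := fun l => by
  rw [coef_lam]
  split_ifs
  exacts [⟨1, by simp⟩, ⟨0, by simp⟩]

theorem IsGen.intCast (n : ℤ) : IsGen fun _ : A => (n : ℂ) := fun l => by
  have h := coef_const_mul (n : ℂ) (fun a => (((1 : A →* ℂˣ) a : ℂˣ) : ℂ)) l
  simp only [coef_lam] at h
  simp only [MonoidHom.one_apply, Units.val_one, mul_one] at h
  rw [h]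
  split_ifs
  exacts [⟨n, by simp⟩, ⟨0, by simp⟩]

theorem IsGen.add {f g : A → ℂ} (hf : IsGen f) (hg : IsGen g) : IsGen fun a => f a + g a :=
  fun l => by
    obtain ⟨m, hm⟩ := hf l
    obtain ⟨n, hn⟩ := hg l
    exact ⟨m + n, by rw [coef_add, hm, hn]; push_cast; rfl⟩

theorem IsGen.sum {ι : Type*} (s : Finset ι) {f : ι → A → ℂ} (hf : ∀ i ∈ s, IsGen (f i)) :
    IsGen fun a => ∑ i ∈ s, f i a := fun l => by
  choose n hn using fun i : s => hf i.1 i.2 l
  refine ⟨∑ i, n i, ?_⟩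
  rw [coef_sum, ← Finset.sum_coe_sort]
  push_cast
  exact Finset.sum_congr rfl fun i _ => hn i

theorem IsGen.intMul (n : ℤ) {f : A → ℂ} (hf : IsGen f) : IsGen fun a => (n : ℂ) * f a :=
  fun l => by
    obtain ⟨m, hm⟩ := hf l
    exact ⟨n * m, by rw [coef_const_mul, hm]; push_cast; rfl⟩

theorem IsGen.conj {f : A → ℂ} (hf : IsGen f) : IsGen fun a => conj (f a) := fun l => by
  obtain ⟨m, hm⟩ := hf l⁻¹
  exact ⟨m, by rw [coef_conj, hm, map_intCast]⟩

theorem IsGen.comp {f : A → ℂ} (hf : IsGen f) (σ : A ≃* A) : IsGen fun a => f (σ a) := fun l => by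
  rw [coef_comp]
  exact hf _

theorem IsGen.congr {f g : A → ℂ} (hf : IsGen f) (h : ∀ a, g a = f a) : IsGen g :=
  funext h ▸ hf

theorem IsGen.mul {f g : A → ℂ} (hf : IsGen f) (hg : IsGen g) : IsGen fun a => f a * g a := by
  have := Fintype.ofFinite (A →* ℂˣ)
  refine IsGen.congr (f := fun a => ∑ mu : A →* ℂˣ, coef f mu * (((mu a : ℂˣ) : ℂ) * g a)) ?_ fun a => by
    rw [inversion f a, Finset.sum_mul]
    exact Finset.sum_congr rfl fun mu _ => mul_assoc _ _ _
  refine IsGen.sum _ fun mu _ => ?_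
  obtain ⟨n, hn⟩ := hf mu
  rw [hn]
  refine IsGen.intMul n fun l => ?_
  rw [coef_mul_lam]
  exact hg _

theorem IsGen.pow {f : A → ℂ} (hf : IsGen f) (n : ℕ) : IsGen fun a => f a ^ n := by
  induction n with
  | zero => exact (IsGen.intCast 1).congr fun a => by simp
  | succ n ih => exact (ih.mul hf).congr fun a => pow_succ _ _

theorem IsGen.exists_expansion {f : A → ℂ} (hf : IsGen f) [Fintype (A →* ℂˣ)] :
    ∃ n : (A →* ℂˣ) → ℤ, (∀ lam, coef f lam = n lam) ∧
      ∀ a, f a = ∑ lam : A →* ℂˣ, (n lam : ℂ) * ((lam a : ℂˣ) : ℂ) := by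
  choose n hn using hf
  exact ⟨n, hn, fun a => by simp only [inversion f a, hn]⟩

theorem IsGen.isIntegral {f : A → ℂ} (hf : IsGen f) (a : A) : IsIntegral ℤ (f a) := by
  have := Fintype.ofFinite (A →* ℂˣ)
  obtain ⟨n, -, h⟩ := hf.exists_expansion
  rw [h]
  exact IsIntegral.sum _ fun l _ => (isIntegral_intCast' _).mul (lam_isIntegral l a)

theorem IsGen.exists_int_one {f : A → ℂ} (hf : IsGen f) : ∃ c : ℤ, f 1 = c := by
  have := Fintype.ofFinite (A →* ℂˣ)
  obtain ⟨n, -, h⟩ := hf.exists_expansion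
  exact ⟨∑ l, n l, by rw [h]; simp⟩

variable {p : ℕ} {M : Ideal AlgInt} (hM : IsPModular p M) (hA : IsPGroup p A)
include hM hA

/-- A generalized character is constant modulo `M`. -/
theorem IsGen.red_eq {f : A → ℂ} (hf : IsGen f) (a : A) : red0 M (f a) = red0 M (f 1) := by
  have := Fintype.ofFinite (A →* ℂˣ)
  obtain ⟨n, -, h⟩ := hf.exists_expansion
  obtain ⟨k, hk⟩ := hA a
  have hl : ∀ l : A →* ℂˣ, red0 M ((l a : ℂˣ) : ℂ) = 1 := fun l =>
    red0_eq_one_of_pow hM (k := k) (by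
      rw [← Units.val_pow_eq_pow_val, ← map_pow, hk, map_one, Units.val_one])
  rw [h, h, red0_sum _ fun l _ => (isIntegral_intCast' _).mul (lam_isIntegral l a),
    red0_sum _ fun l _ => (isIntegral_intCast' _).mul (lam_isIntegral l 1)]
  refine Finset.sum_congr rfl fun l _ => ?_
  rw [red0_mul (isIntegral_intCast' _) (lam_isIntegral l a),
    red0_mul (isIntegral_intCast' _) (lam_isIntegral l 1), hl, map_one, Units.val_one, red0_one]

/-- A power of a generalized character prime to `p` is one modulo the order. -/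
theorem exists_pow_congr {g : A → ℂ} (hg : IsGen g) {c : ℤ} (hc : g 1 = c) (hpc : ¬ (p : ℤ) ∣ c) :
    ∃ N : ℕ, 0 < N ∧ ∀ a, ∃ h : ℂ, IsIntegral ℤ h ∧ g a ^ N = 1 + (Nat.card A : ℂ) * h := by
  have := Fintype.ofFinite (A →* ℂˣ)
  have hp := Fact.mk hM.1
  obtain ⟨k, hk⟩ := IsPGroup.iff_card.1 hA
  obtain ⟨n, -, hexp⟩ := hg.exists_expansion
  have hfr : ∀ a, CharAction.CongMod p (g a ^ (p ^ k))
      (∑ l : A →* ℂˣ, ((n l : ℂ) ^ (p ^ k))) := by
    intro a
    rw [hexp a]
    convert CharAction.congMod_pow_sum (p := p) k Finset.univ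
      (fun l : A →* ℂˣ => (n l : ℂ) * ((l a : ℂˣ) : ℂ))
      (fun l _ => (isIntegral_intCast' _).mul (lam_isIntegral l a)) using 2 with l
    rw [mul_pow, ← Units.val_pow_eq_pow_val, ← map_pow, ← hk, pow_card_eq_one', map_one,
      Units.val_one, mul_one]
  obtain ⟨d, hd⟩ : (p : ℤ) ∣ (c ^ (p ^ k)) ^ (p - 1) - 1 := by
    refine (Int.ModEq.pow_card_sub_one_eq_one hM.1 ?_).symm.dvd
    exact Int.isCoprime_iff_nat_coprime.2 (Nat.Coprime.symm (hM.1.coprime_iff_not_dvd.2 fun h =>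
      hpc (Int.natCast_dvd.2 (hM.1.dvd_of_dvd_pow (n := p ^ k) (by rwa [← Int.natAbs_pow])))))
  refine ⟨p ^ k * (p - 1) * p ^ k, Nat.mul_pos (Nat.mul_pos (pow_pos hM.1.pos k)
    (Nat.sub_pos_of_lt hM.1.one_lt)) (pow_pos hM.1.pos k), fun a => ?_⟩
  obtain ⟨s, hs, hse⟩ := hfr a
  obtain ⟨t, ht, hte⟩ := hfr 1
  rw [hc] at hte
  let x : AlgInt := ⟨g a ^ (p ^ k), (hg.isIntegral a).pow _⟩
  have hxc : (p : AlgInt) ∣ x - (c : AlgInt) ^ (p ^ k) := by
    refine ⟨⟨s, hs⟩ - ⟨t, ht⟩, Subtype.ext ?_⟩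
    simp only [x]
    push_cast
    linear_combination hse - hte
  have hx1 : (p : AlgInt) ∣ x ^ (p - 1) - 1 := by
    have h1 := dvd_trans hxc (sub_dvd_pow_sub_pow x ((c : AlgInt) ^ (p ^ k)) (p - 1))
    have h2 : (p : AlgInt) ∣ ((c : AlgInt) ^ (p ^ k)) ^ (p - 1) - 1 := ⟨(d : AlgInt), by
      have := congrArg (fun z : ℤ => (z : AlgInt)) hd
      simpa using this⟩
    simpa using dvd_add h1 h2
  obtain ⟨b, hb⟩ := dvd_sub_pow_of_dvd_sub hx1 k
  refine ⟨(p : ℂ) * (b : ℂ), (isIntegral_intCast' (p : ℤ)).mul b.2 |> fun h => by simpa using h, ?_⟩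
  have hb' := congrArg (fun z : AlgInt => (z : ℂ)) hb
  simp only [x] at hb'
  push_cast at hb'
  rw [← pow_mul, ← pow_mul, one_pow, pow_succ] at hb'
  rw [hk]
  push_cast
  linear_combination hb'

/-- Cancelling a generalized character with value prime to `p` at `1`. -/
theorem isGen_of_mul {f g : A → ℂ} (hg : IsGen g) {c : ℤ} (hc : g 1 = c) (hpc : ¬ (p : ℤ) ∣ c)
    (hf : ∀ a, IsIntegral ℤ (f a)) (hfg : IsGen fun a => f a * g a) : IsGen f := by
  have := Fintype.ofFinite (A →* ℂˣ)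
  have hg0 : ∀ a, g a ≠ 0 := fun a h => by
    have h1 := hg.red_eq hM hA a
    rw [h, red0_zero, hc] at h1
    exact hpc ((red0_eq_zero_iff_dvd hM c).1 h1.symm)
  -- the inverse has rational multiplicities
  obtain ⟨n, hn, hexp⟩ := hg.exists_expansion
  let L : ((A →* ℂˣ) → ℚ) →ₗ[ℚ] ((A →* ℂˣ) → ℚ) :=
    { toFun := fun q l => ∑ mu, q mu * (n (l * mu⁻¹) : ℚ)
      map_add' := fun q q' => funext fun l => by simp [add_mul, Finset.sum_add_distrib]
      map_smul' := fun r q => funext fun l => by simp [Finset.mul_sum, mul_assoc] }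
  have hL : ∀ q l, coef (fun a => (∑ mu, (q mu : ℂ) * ((mu a : ℂˣ) : ℂ)) * g a) l = (L q l : ℂ) := by
    intro q l
    simp only [Finset.sum_mul]
    rw [coef_sum]
    simp only [L, LinearMap.coe_mk, AddHom.coe_mk, Rat.cast_sum, Rat.cast_mul, Rat.cast_intCast]
    refine Finset.sum_congr rfl fun mu _ => ?_
    simp only [mul_assoc]
    rw [coef_const_mul, coef_mul_lam, hn]
  have hinj : Function.Injective L := by
    rw [← LinearMap.ker_eq_bot, Submodule.eq_bot_iff]
    intro q hq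
    have h0 : ∀ a, ∑ mu, (q mu : ℂ) * ((mu a : ℂˣ) : ℂ) = 0 := fun a => by
      refine (mul_eq_zero.1 ?_).resolve_right (hg0 a)
      rw [inversion (fun a => (∑ mu, (q mu : ℂ) * ((mu a : ℂˣ) : ℂ)) * g a) a]
      exact Finset.sum_eq_zero fun l _ => by
        rw [hL, LinearMap.mem_ker.1 hq]; simp
    funext l
    have h1 : coef (fun a => ∑ mu, (q mu : ℂ) * ((mu a : ℂˣ) : ℂ)) l = (q l : ℂ) := by
      simp [coef_sum, coef_const_mul, coef_lam]
    rw [funext h0] at h1
    simpa [coef] using h1.symm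
  obtain ⟨q, hq⟩ := (LinearMap.injective_iff_surjective.1 hinj) (fun l => if l = 1 then 1 else 0)
  have hinv : ∀ a, (∑ mu, (q mu : ℂ) * ((mu a : ℂˣ) : ℂ)) * g a = 1 := fun a => by
    rw [inversion (fun a => (∑ mu, (q mu : ℂ) * ((mu a : ℂˣ) : ℂ)) * g a) a,
      Finset.sum_eq_single 1]
    · rw [hL, hq]; simp
    · intro l _ hl; rw [hL, hq]; simp [hl]
    · simp
  -- rationality
  intro l
  obtain ⟨r, hr⟩ : ∃ r : ℚ, coef f l = r := by
    choose m hm using hfg
    refine ⟨∑ mu, q mu * (m (l * mu⁻¹) : ℚ), ?_⟩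
    rw [show coef f l = coef (fun a => ∑ mu, (q mu : ℂ) * (((mu a : ℂˣ) : ℂ) * (f a * g a))) l by
      congr 1
      funext a
      rw [Finset.sum_congr rfl fun mu _ => (mul_assoc _ _ _).symm, ← Finset.sum_mul, mul_left_comm,
        hinv, mul_one], coef_sum]
    push_cast
    exact Finset.sum_congr rfl fun mu _ => by rw [coef_const_mul, coef_mul_lam, hm]
  -- integrality
  obtain ⟨N, hN, hNh⟩ := exists_pow_congr hM hA hg hc hpc
  choose h hhi hhe using hNh
  have hint : IsIntegral ℤ (coef f l) := by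
    obtain ⟨m, hm⟩ := (hfg.mul (hg.pow (N - 1))) l
    have h1 : coef f l = coef (fun a => f a * g a * g a ^ (N - 1)) l -
        ∑ a : A, ((l a⁻¹ : ℂˣ) : ℂ) * (f a * h a) := by
      rw [eq_sub_iff_add_eq, coef, coef, ← mul_right_inj' (card_ne_zero' (A := A)), mul_add,
        mul_inv_cancel_left₀ card_ne_zero', mul_inv_cancel_left₀ card_ne_zero', Finset.mul_sum,
        ← Finset.sum_add_distrib]
      refine Finset.sum_congr rfl fun a _ => ?_
      rw [mul_assoc (f a), ← pow_succ', Nat.sub_add_cancel hN, hhe a]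
      ring
    rw [h1, hm]
    exact (isIntegral_intCast' m).sub (IsIntegral.sum _ fun a _ =>
      (lam_isIntegral l _).mul ((hf a).mul (hhi a)))
  rw [hr] at hint ⊢
  have hq' : IsIntegral ℤ r :=
    (isIntegral_algebraMap_iff (A := ℚ) (B := ℂ) (RingHom.injective _)).1 (by simpa using hint)
  obtain ⟨z, hz⟩ := IsIntegrallyClosed.isIntegral_iff.mp hq'
  exact ⟨z, by rw [← hz]; simp⟩

/-- Cancelling away from `1`. -/
theorem exists_gen_off_one {f g G0 : A → ℂ} (hg : IsGen g) {c : ℤ} (hc : g 1 = c)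
    (hpc : ¬ (p : ℤ) ∣ c) (hf : ∀ a, a ≠ 1 → IsIntegral ℤ (f a)) (hG0 : IsGen G0)
    (hfg : ∀ a, a ≠ 1 → G0 a = f a * g a) :
    ∃ F : A → ℂ, IsGen F ∧ ∀ a, a ≠ 1 → F a = f a := by
  have := Fact.mk hM.1
  obtain ⟨k, hk⟩ := IsPGroup.iff_card.1 hA
  obtain ⟨e, he⟩ := hG0.exists_int_one
  have hcop : IsCoprime c (Nat.card A : ℤ) := by
    rw [hk, Nat.cast_pow]
    exact ((Nat.prime_iff_prime_int.1 hM.1).coprime_iff_not_dvd.2 hpc).symm.pow_right
  obtain ⟨x, y, hxy⟩ := hcop
  let F : A → ℂ := fun a => if a = 1 then ((x * e : ℤ) : ℂ) else f a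
  refine ⟨F, isGen_of_mul hM hA hg hc hpc (fun a => ?_) ?_, fun a ha => if_neg ha⟩
  · by_cases ha : a = 1
    · rw [show F a = ((x * e : ℤ) : ℂ) from if_pos ha]
      exact isIntegral_intCast' _
    · rw [show F a = f a from if_neg ha]
      exact hf a ha
  · intro l
    obtain ⟨m, hm⟩ := hG0 l
    refine ⟨m - y * e, ?_⟩
    have h1 : ∀ a, F a * g a = G0 a + (if a = 1 then ((- (y * e) * Nat.card A : ℤ) : ℂ) else 0) := by
      intro a
      by_cases ha : a = 1
      · subst ha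
        have h := congrArg (fun z : ℤ => (z : ℂ)) hxy
        simp only [F, if_true, hc, he]
        push_cast at h ⊢
        linear_combination (e : ℂ) * h
      · simp only [F, if_neg ha, add_zero, hfg a ha]
    simp only [h1, coef_add, hm]
    simp [coef, Finset.sum_ite_eq', mul_comm]
    field_simp
    ring

omit hM hA

/-- A generalized character with values of absolute value one, equal to `1` at `1`, is linear. -/
theorem exists_eq_lam {f : A → ℂ} (hf : IsGen f) (hnorm : ∀ a, f a * conj (f a) = 1) (h1 : f 1 = 1) :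
    ∃ lam : A →* ℂˣ, ∀ a, f a = ((lam a : ℂˣ) : ℂ) := by
  have := Fintype.ofFinite (A →* ℂˣ)
  obtain ⟨n, hn, hexp⟩ := hf.exists_expansion
  have hsum : ∑ l, n l = 1 := by
    have h := hexp 1
    rw [h1] at h
    simp only [map_one, Units.val_one, mul_one] at h
    exact_mod_cast h.symm
  have hsq : ∑ l, n l ^ 2 = 1 := by
    have h : coef (fun a => f a * conj (f a)) 1 = 1 := by
      simp only [hnorm, coef, MonoidHom.one_apply, Units.val_one, mul_one, Finset.sum_const,
        Finset.card_univ, nsmul_eq_mul, ← Nat.card_eq_fintype_card]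
      exact inv_mul_cancel₀ card_ne_zero'
    rw [show (fun a => f a * conj (f a)) =
      fun a => ∑ l, (n l : ℂ) * (((l a : ℂˣ) : ℂ) * conj (f a)) from funext fun a => by
        rw [hexp a, Finset.sum_mul]; exact Finset.sum_congr rfl fun l _ => mul_assoc _ _ _,
      coef_sum] at h
    simp only [coef_const_mul, coef_mul_lam, coef_conj,
      show ∀ l : A →* ℂˣ, ((1 : A →* ℂˣ) * l⁻¹)⁻¹ = l from fun l =>
        MonoidHom.ext fun a => by simp,
      hn, map_intCast] at h
    rw [Finset.sum_congr rfl fun l _ => (pow_two (n l))]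
    exact_mod_cast h
  obtain ⟨l₀, hl₀⟩ : ∃ l, n l ≠ 0 := by
    by_contra! h
    simp [h] at hsum
  have hrest : ∀ l, l ≠ l₀ → n l = 0 := by
    intro l hl
    by_contra hne
    have h := Finset.sum_le_sum_of_subset_of_nonneg (f := fun l => n l ^ 2)
      (Finset.subset_univ {l, l₀}) fun i _ _ => sq_nonneg _
    rw [Finset.sum_pair hl, hsq] at h
    have := pow_two_pos_of_ne_zero hne
    have := pow_two_pos_of_ne_zero hl₀
    omega
  have h01 : n l₀ = 1 := by
    rwa [Finset.sum_eq_single l₀ (fun l _ hl => hrest l hl) (by simp)] at hsum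
  refine ⟨l₀, fun a => ?_⟩
  rw [hexp, Finset.sum_eq_single l₀ (fun l _ hl => by simp [hrest l hl]) (by simp), h01]
  simp

/-- A linear character trivial on the involutions is a square. -/
theorem exists_sq (lam : A →* ℂˣ) (h : ∀ a : A, a * a = 1 → lam a = 1) :
    ∃ mu : A →* ℂˣ, ∀ a, mu a * mu a = lam a := by
  let sq : A →* A := { toFun := fun a => a * a, map_one' := mul_one 1, map_mul' := fun a b => by
                        simp [mul_mul_mul_comm] }
  obtain ⟨mu, hmu⟩ := MonoidHom.domRestrict_surjective (M := ℂ) sq.range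
    (((QuotientGroup.lift sq.ker lam fun a ha => h a ha).comp
      (QuotientGroup.quotientKerEquivRange sq).symm.toMonoidHom))
  refine ⟨mu, fun a => ?_⟩
  rw [← map_mul]
  have h1 := DFunLike.congr_fun hmu ⟨a * a, a, rfl⟩
  have h2 : (QuotientGroup.quotientKerEquivRange sq).symm ⟨a * a, a, rfl⟩ =
      QuotientGroup.mk a := (MulEquiv.symm_apply_eq _).2 (Subtype.ext rfl)
  simp only [h2, MonoidHom.comp_apply, MonoidHom.domRestrictHom_apply, MonoidHom.domRestrict_apply,
    MulEquiv.coe_toMonoidHom] at h1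
  rw [h1]
  rfl

end CfsgLib.FreeInertial
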