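import Cfsg.Agent.Lib.Blocks.FreeInertial.Bound
import Mathlib.GroupTheory.SpecificGroups.Cyclic.Basic
import Mathlib.Data.ZMod.Basic

/-!
# Automorphisms of odd order of abelian two-groups with at most three involutions
-/

set_option autoImplicit false

namespace CfsgLib.FreeInertial

open scoped Classical

theorem card_sq_eq_one_le (N : ℕ) [NeZero N] :
    Nat.card {y : Multiplicative (ZMod N × ZMod N) // y ^ 2 = 1} ≤ 4 := by
  have hb : Nat.card {y : Multiplicative (ZMod N) // y ^ 2 = 1} ≤ 2 := by
    rw [Nat.card_eq_fintype_card, Fintype.card_subtype]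
    exact IsCyclic.card_pow_eq_one_le two_pos
  let f : {y : Multiplicative (ZMod N × ZMod N) // y ^ 2 = 1} →
      {y : Multiplicative (ZMod N) // y ^ 2 = 1} × {y : Multiplicative (ZMod N) // y ^ 2 = 1} :=
    fun y =>
      (⟨Multiplicative.ofAdd (Multiplicative.toAdd y.1).1, congrArg
        (fun z : Multiplicative (ZMod N × ZMod N) =>
          Multiplicative.ofAdd (Multiplicative.toAdd z).1) y.2⟩,
        ⟨Multiplicative.ofAdd (Multiplicative.toAdd y.1).2, congrArg
          (fun z : Multiplicative (ZMod N × ZMod N) =>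
            Multiplicative.ofAdd (Multiplicative.toAdd z).2) y.2⟩)
  have hf : Function.Injective f := fun a b h => by
    refine Subtype.ext (Multiplicative.toAdd.injective (Prod.ext ?_ ?_))
    · exact congrArg (fun x => Multiplicative.toAdd x.1.1) h
    · exact congrArg (fun x => Multiplicative.toAdd x.2.1) h
  refine le_trans (Nat.card_le_card_of_injective f hf) ?_
  rw [Nat.card_prod]
  exact Nat.mul_le_mul hb hb

section Auto

variable {A : Type*} [CommGroup A] [Finite A] (hA : IsPGroup 2 A)
  (hΩ : Nat.card {y : A // y ^ 2 = 1} ≤ 4)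
include hA

omit [Finite A] in
theorem exists_involution_fixed {σ : MulAut A} {x : A} (hx : x ≠ 1) (hfix : σ x = x) :
    ∃ a : A, a ^ 2 = 1 ∧ a ≠ 1 ∧ σ a = a := by
  obtain ⟨k, hk⟩ := hA x
  have hex : ∃ j, x ^ 2 ^ j = 1 := ⟨k, hk⟩
  obtain ⟨j, hj⟩ : ∃ j, Nat.find hex = j + 1 := ⟨Nat.find hex - 1, by
    have h0 : Nat.find hex ≠ 0 := fun h => hx (by simpa [h] using Nat.find_spec hex)
    omega⟩
  refine ⟨x ^ 2 ^ j, ?_, Nat.find_min hex (by omega), by rw [map_pow, hfix]⟩
  rw [← pow_mul, ← pow_succ, ← hj]
  exact Nat.find_spec hex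

include hΩ in
/-- An automorphism of odd order with a nontrivial fixed point is trivial. -/
theorem eq_one_of_fixed {σ : MulAut A} (hσ : Odd (orderOf σ)) {x : A} (hx : x ≠ 1)
    (hfix : σ x = x) : σ = 1 := by
  obtain ⟨a, ha, ha1, hσa⟩ := exists_involution_fixed hA hx hfix
  obtain ⟨r, hr⟩ := hσ
  have hinv : ∀ b : A, b ^ 2 = 1 → σ b = b := by
    intro b hb
    by_cases hb1 : b = 1
    · rw [hb1, map_one]
    by_cases hba : b = a
    · rw [hba, hσa]
    have hab : a * b ≠ 1 := fun h => hba (by
      rw [← inv_eq_of_mul_eq_one_right h]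
      exact inv_eq_of_mul_eq_one_right (by rwa [← pow_two]))
    have haa : a * a = 1 := by rwa [← pow_two]
    have := Fintype.ofFinite A
    let s : Finset A := {1, a, b, a * b}
    have hs : s.card = 4 := by
      rw [show s = {1, a, b, a * b} from rfl, Finset.card_insert_of_notMem, Finset.card_insert_of_notMem,
        Finset.card_insert_of_notMem, Finset.card_singleton]
      · simp [ha1]
      · simp [Ne.symm hba, hb1]
      · simp [Ne.symm ha1, Ne.symm hb1, Ne.symm hab]
    have hsub : s ⊆ Finset.univ.filter fun y : A => y ^ 2 = 1 := by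
      intro y hy
      simp only [s, Finset.mem_insert, Finset.mem_singleton] at hy
      rw [Finset.mem_filter]
      refine ⟨Finset.mem_univ _, ?_⟩
      rcases hy with rfl | rfl | rfl | rfl <;> simp [mul_pow, ha, hb]
    have heq := Finset.eq_of_subset_of_card_le hsub (by
      rw [hs, ← Fintype.card_subtype, ← Nat.card_eq_fintype_card]
      exact hΩ)
    have hmem : σ b ∈ s := by
      rw [heq]
      exact Finset.mem_filter.2 ⟨Finset.mem_univ _, by rw [← map_pow, hb, map_one]⟩
    simp only [s, Finset.mem_insert, Finset.mem_singleton] at hmem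
    rcases hmem with h | h | h | h
    · exact absurd (σ.injective (h.trans (map_one σ).symm)) hb1
    · exact absurd (σ.injective (h.trans hσa.symm)) hba
    · exact h
    · have h2 : (σ ^ 2) b = b := by
        rw [pow_two, MulAut.mul_apply, h, map_mul, hσa, h, ← mul_assoc, haa, one_mul]
      have h3 : ∀ m : ℕ, ((σ ^ 2) ^ m) b = b := by
        intro m
        induction m with
        | zero => simp
        | succ m ih => rw [pow_succ, MulAut.mul_apply, h2, ih]
      have h4 : σ = (σ ^ 2) ^ (r + 1) := by
        rw [← pow_mul, show 2 * (r + 1) = orderOf σ + 1 by omega, pow_succ, pow_orderOf_eq_one,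
          one_mul]
      rw [h4]
      exact h3 (r + 1)
  have key : ∀ j : ℕ, ∀ y : A, y ^ 2 ^ j = 1 → σ y = y := by
    intro j
    induction j with
    | zero => intro y hy; rw [pow_zero, pow_one] at hy; rw [hy, map_one]
    | succ j ih =>
      intro y hy
      set t := σ y * y⁻¹ with ht
      have hy2 : σ (y ^ 2) = y ^ 2 := ih _ (by rw [← pow_mul, ← pow_succ']; exact hy)
      have ht2 : t ^ 2 = 1 := by
        rw [ht, mul_pow, ← map_pow, hy2, inv_pow, mul_inv_cancel]
      have hσy : σ y = t * y := by rw [ht, inv_mul_cancel_right]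
      have hm : ∀ m : ℕ, (σ ^ m) y = t ^ m * y := by
        intro m
        induction m with
        | zero => simp
        | succ m ihm =>
          rw [pow_succ', MulAut.mul_apply, ihm, map_mul, map_pow, hinv t ht2, hσy, ← mul_assoc,
            ← pow_succ]
      have h1 := hm (orderOf σ)
      rw [pow_orderOf_eq_one, MulAut.one_apply, hr, pow_succ, pow_mul, ht2, one_pow, one_mul] at h1
      rw [hσy, ← h1]
  refine MulEquiv.ext fun y => ?_
  obtain ⟨k, hk⟩ := hA y
  exact key k y hk

omit hA in
include hΩ in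
/-- A group of automorphisms acting freely has at most three elements. -/
theorem card_le_three {E : Subgroup (MulAut A)}
    (hE : ∀ σ ∈ E, ∀ x : A, x ≠ 1 → σ x = x → σ = 1) {a : A} (ha : a ^ 2 = 1) (ha1 : a ≠ 1) :
    Nat.card E ≤ 3 := by
  let f : Option E → {y : A // y ^ 2 = 1} := fun o => o.elim ⟨1, one_pow 2⟩
    fun σ => ⟨(σ : MulAut A) a, by rw [← map_pow, ha, map_one]⟩
  have hne : ∀ σ : E, (σ : MulAut A) a ≠ 1 := fun σ h =>
    ha1 ((σ : MulAut A).injective (h.trans (map_one _).symm))
  have hf : Function.Injective f := by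
    rintro (_ | σ) (_ | τ) h
    · rfl
    · exact absurd (congrArg Subtype.val h).symm (hne τ)
    · exact absurd (congrArg Subtype.val h) (hne σ)
    · refine congrArg some (Subtype.ext (inv_mul_eq_one.1
        (hE _ (mul_mem (inv_mem σ.2) τ.2) a ha1 ?_)))
      show (σ : MulAut A).symm ((τ : MulAut A) a) = a
      rw [← show (σ : MulAut A) a = (τ : MulAut A) a from congrArg Subtype.val h,
        MulEquiv.symm_apply_apply]
  have h := Nat.card_le_card_of_injective f hf
  rw [Finite.card_option] at h
  omega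


end Auto

open Cfsg CfsgLib.Blocks CfsgLib.Pairs

/-- The inertial group of a maximal pair on an abelian group has order prime to `p`. -/
theorem not_dvd_card_inertAut_of_maximal {G : Type*} [Group G] [Fintype G] {p : ℕ} [Fact p.Prime]
    {M : Ideal AlgInt} [M.IsPrime] {B : Set (IrrCharacter G)} {P : Subgroup G}
    {c : Set (IrrCharacter (Subgroup.centralizer (P : Set G)))} [IsMulCommutative ↥P]
    (hM : IsPModular p M) (hmax : IsMaximalBrauerPair p M B P c) :
    ¬ p ∣ Nat.card (inertAut P c) := by
  intro hd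
  obtain ⟨σ, hσ⟩ := exists_prime_orderOf_dvd_card' p hd
  obtain ⟨t, ht, hte⟩ := exists_of_mem_inertAut σ.2
  have hpow : ∀ (m : ℕ) (x : P),
      ((((σ : MulAut P) ^ m) x : P) : G) = t ^ m * (x : G) * (t ^ m)⁻¹ := by
    intro m
    induction m with
    | zero => intro x; simp
    | succ m ih =>
      intro x
      rw [pow_succ', MulAut.mul_apply, hte, ih, pow_succ']
      group
  obtain ⟨a, b, hb, hord⟩ := Nat.exists_eq_pow_mul_and_not_dvd (orderOf_pos t).ne' p
    (Nat.Prime.one_lt Fact.out).ne'
  have hb0 : b ≠ 0 := by rintro rfl; exact hb (dvd_zero p)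
  have hT := mem_pairStab.1 (pow_mem ht b)
  have h := mem_sup_of_maximal hM hmax.1.1 hmax hT.1 hT.2 ⟨a, by
    rw [orderOf_pow' t hb0, hord, Nat.gcd_mul_left_left,
      Nat.mul_div_cancel _ (Nat.pos_of_ne_zero hb0)]⟩
  rw [sup_eq_right.2 fun x hx => Subgroup.mem_centralizer_iff.2 fun y hy =>
    comm_of_isMulCommutative y hy x hx] at h
  refine hb (hσ ▸ orderOf_dvd_of_pow_eq_one (Subtype.ext (MulEquiv.ext fun x => Subtype.ext ?_)))
  rw [SubgroupClass.coe_pow, hpow, OneMemClass.coe_one, MulAut.one_apply,
    ← Subgroup.mem_centralizer_iff.1 h x x.2, mul_inv_cancel_right]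

end CfsgLib.FreeInertial
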