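import Cfsg.Agent.Lib.Blocks.FreeInertial.Setting

/-!
# Orthogonality of the translates
-/

set_option autoImplicit false

namespace CfsgLib.FreeInertial

open Cfsg MonoidAlgebra CfsgLib.Blocks CfsgLib.Pairs CfsgLib.Star CfsgLib.Watanabe
open scoped Classical ComplexConjugate IsMulCommutative

variable {G : Type*} [Group G] [Fintype G] {p : ℕ} [Fact p.Prime] {M : Ideal AlgInt} [M.IsPrime]
  {B : Set (IrrCharacter G)} {P : Subgroup G}
  {c : Set (IrrCharacter (Subgroup.centralizer (P : Set G)))}

/-- The sum of the characters of a pair as a function on the group. -/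
noncomputable def psiG (a : BrauerPairIdx G) (g : G) : ℂ :=
  ∑ ξ ∈ (Set.toFinite a.2).toFinset, extFun (Subgroup.centralizer (a.1 : Set G)) ξ g

/-- The pair below `(P, c)` at `S`. -/
noncomputable def belowPair (p : ℕ) (M : Ideal AlgInt) (P : Subgroup G)
    (c : Set (IrrCharacter (Subgroup.centralizer (P : Set G)))) (S : Subgroup G) : BrauerPairIdx G :=
  ⟨S, below p M P c S⟩

omit [Fact p.Prime] [M.IsPrime] in
theorem psiG_conjPair (x : G) (a : BrauerPairIdx G) (g : G) :
    psiG (conjPair x a) g = psiG a (x⁻¹ * g * x) := by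
  have h : ∀ b : BrauerPairIdx G, ∀ y, psiG b y = ∑ᶠ F ∈ idxFun b, F y := fun b y => by
    rw [idxFun, finsum_mem_image (extFun_injective _).injOn, psiG,
      finsum_mem_eq_finite_toFinset_sum _ (Set.toFinite _)]
  rw [h, h, idxFun_conjPair, finsum_mem_image]
  intro F _ F' _ e
  funext y
  have := congrFun e (x * y * x⁻¹)
  simpa [mul_assoc] using this

omit [Fact p.Prime] [M.IsPrime] in
theorem psiG_coe (a : BrauerPairIdx G) (l : Subgroup.centralizer (a.1 : Set G)) :
    psiG a (l : G) = ∑ ξ ∈ (Set.toFinite a.2).toFinset,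
      (ξ : Subgroup.centralizer (a.1 : Set G) → ℂ) l :=
  Finset.sum_congr rfl fun ξ _ => by simp [extFun]

omit [Fact p.Prime] [M.IsPrime] in
theorem exists_equiv_of_range {L : Type*} [Group L] (ι : L →* G) (hι : Function.Injective ι)
    {C : Subgroup G} (hr : ι.range = C) : ∃ e : L ≃* C, ∀ l, (e l : G) = ι l :=
  ⟨(MonoidHom.ofInjective hι).trans (MulEquiv.subgroupCongr hr), fun l => rfl⟩

omit [Fact p.Prime] [M.IsPrime] in
/-- The multiplicities read in an isomorphic copy of the centralizer. -/
theorem dval_eq_classInner {L : Type*} [Group L] [Fintype L] (ι : L →* G)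
    (hι : Function.Injective ι) {S : Subgroup G}
    (hr : ι.range = Subgroup.centralizer (S : Set G)) (z : G) (f : G → ℂ) :
    dval p M P c S z f =
      classInner (fun l => f (z * ι l)) (fun l => psiG (belowPair p M P c S) (ι l)) := by
  obtain ⟨e, he⟩ := exists_equiv_of_range ι hι hr
  simp only [dval, classInner]
  rw [← Finset.mul_sum, Finset.sum_comm, Nat.card_congr e.toEquiv]
  congr 1
  refine Fintype.sum_equiv e.symm.toEquiv _ _ fun w => ?_
  rw [← Finset.mul_sum, ← map_sum]
  have hw : ι (e.symm.toEquiv w) = (w : G) := by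
    rw [← he]
    exact congrArg Subtype.val (e.apply_symm_apply w)
  rw [hw]
  exact congrArg (fun v => f (z * (w : G)) * conj v) (psiG_coe (belowPair p M P c S) w).symm

omit [Fact p.Prime] [M.IsPrime] in
theorem isClassFunction_psiG_comp {L : Type*} [Group L] (ι : L →* G) (a : BrauerPairIdx G)
    (hι : ∀ l, ι l ∈ Subgroup.centralizer (a.1 : Set G)) :
    IsClassFunction L fun l => psiG a (ι l) := by
  intro l v
  show psiG a (ι (v * l * v⁻¹)) = psiG a (ι l)
  rw [show ι (v * l * v⁻¹) =
      (((⟨ι v, hι v⟩ * ⟨ι l, hι l⟩ * ⟨ι v, hι v⟩⁻¹ : Subgroup.centralizer (a.1 : Set G))) : G) by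
    simp, psiG_coe]
  exact (Finset.sum_congr rfl fun ξ _ => Char.IsIrr.isClassFunction ξ.2 _ _).trans
    (psiG_coe a ⟨ι l, hι l⟩).symm

omit [Fact p.Prime] in
/-- Inner products of the sums over two blocks of one centralizer. -/
theorem classInner_psiG {L : Type*} [Group L] [Fintype L] (ι : L →* G)
    (hι : Function.Injective ι) {S : Subgroup G}
    (hr : ι.range = Subgroup.centralizer (S : Set G))
    {f f' : Set (IrrCharacter (Subgroup.centralizer (S : Set G)))} (hf : IsPBlock M f)
    (hf' : IsPBlock M f') :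
    classInner (fun l => psiG ⟨S, f⟩ (ι l)) (fun l => psiG ⟨S, f'⟩ (ι l)) =
      if f = f' then (Nat.card f : ℂ) else 0 := by
  obtain ⟨e, he⟩ := exists_equiv_of_range ι hι hr
  have h1 : classInner (fun l => psiG ⟨S, f⟩ (ι l)) (fun l => psiG ⟨S, f'⟩ (ι l)) =
      classInner (fun w : Subgroup.centralizer (S : Set G) => psiG ⟨S, f⟩ (w : G))
        (fun w : Subgroup.centralizer (S : Set G) => psiG ⟨S, f'⟩ (w : G)) := by
    simp only [classInner]
    rw [Nat.card_congr e.toEquiv]
    congr 1
    exact Fintype.sum_equiv e.toEquiv _ _ fun l => by simp [he]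
  rw [h1]
  have h2 : ∀ g : Set (IrrCharacter (Subgroup.centralizer (S : Set G))),
      (fun w : Subgroup.centralizer (S : Set G) => psiG ⟨S, g⟩ (w : G)) =
        ∑ ξ ∈ (Set.toFinite g).toFinset, (ξ : Subgroup.centralizer (S : Set G) → ℂ) := fun g => by
    funext w
    rw [Finset.sum_apply]
    exact psiG_coe (⟨S, g⟩ : BrauerPairIdx G) w
  rw [h2, h2, Char.classInner_sum_left]
  have h3 : ∀ ξ : IrrCharacter (Subgroup.centralizer (S : Set G)),
      classInner (ξ : Subgroup.centralizer (S : Set G) → ℂ)
        (∑ η ∈ (Set.toFinite f').toFinset, (η : Subgroup.centralizer (S : Set G) → ℂ)) =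
      if ξ ∈ f' then 1 else 0 := fun ξ => by
    rw [← Char.classInner_conj_symm, Char.classInner_sum_left, map_sum]
    by_cases hξ : ξ ∈ f'
    · rw [if_pos hξ, Finset.sum_eq_single ξ]
      · rw [Char.classInner_irr_self, map_one]
      · intro η _ hne; rw [Char.classInner_irr_of_ne hne, map_zero]
      · exact fun h => absurd ((Set.Finite.mem_toFinset _).2 hξ) h
    · rw [if_neg hξ]
      exact Finset.sum_eq_zero fun η hη => by
        rw [Char.classInner_irr_of_ne (by
          rintro rfl
          exact hξ ((Set.Finite.mem_toFinset _).1 hη)), map_zero]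
  simp only [h3]
  by_cases hff : f = f'
  · subst hff
    rw [if_pos rfl, Finset.sum_congr rfl (g := fun _ => (1 : ℂ)) fun ξ hξ =>
      if_pos ((Set.Finite.mem_toFinset _).1 hξ), Finset.sum_const, nsmul_one, Nat.card_coe_set_eq,
      Set.ncard_eq_toFinset_card f (Set.toFinite f)]
  · rw [if_neg hff]
    exact Finset.sum_eq_zero fun ξ hξ => if_neg fun h =>
      hff (IsPBlock.eq_of_mem hf hf' ((Set.Finite.mem_toFinset _).1 hξ) h)

variable [hPab : IsMulCommutative ↥P] (hf : IsFree p M B P c)
include hf

theorem psiG_singular {L : Type*} [Group L] (ι : L →* G) (hι : Function.Injective ι)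
    {S : Subgroup G} (hS : S ≤ P) (hS1 : S ≠ ⊥)
    (hr : ι.range = Subgroup.centralizer (S : Set G)) (l : L) (hl : p ∣ orderOf l) :
    psiG (belowPair p M P c S) (ι l) = 0 := by
  obtain ⟨e, he⟩ := exists_equiv_of_range ι hι hr
  rw [← he]
  refine (psiG_coe (belowPair p M P c S) (e l)).trans ?_
  exact sum_below_apply_singular hf hS hS1 (by rwa [MulEquiv.orderOf_eq])

omit hPab in
theorem range_subtype_singleton (u : G) :
    (Subgroup.centralizer ({u} : Set G)).subtype.range =
      Subgroup.centralizer (Subgroup.zpowers u : Set G) := by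
  rw [Subgroup.range_subtype, centralizer_singleton_eq]

/-- The norm of the translates at a local subgroup. -/
theorem sum_dval_local {Q : Subgroup G} (hQ : Q ≤ P) (hQ1 : Q ≠ ⊥) {z : G} (hz : z ∈ P)
    [Fintype (IrrCharacter (Subgroup.centralizer (Q : Set G)))] :
    ∑ θ : IrrCharacter (Subgroup.centralizer (Q : Set G)),
      dval p M P c (Q ⊔ Subgroup.zpowers z) z
          (ext0 _ (θ : Subgroup.centralizer (Q : Set G) → ℂ)) *
        conj (dval p M P c (Q ⊔ Subgroup.zpowers z) z
          (ext0 _ (θ : Subgroup.centralizer (Q : Set G) → ℂ))) = (Nat.card P : ℂ) := by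
  set S := Q ⊔ Subgroup.zpowers z
  have hS : S ≤ P := sup_le hQ (Subgroup.zpowers_le.2 hz)
  have hS1 : S ≠ ⊥ := ne_bot_of_le_ne_bot hQ1 le_sup_left
  let x : Subgroup.centralizer (Q : Set G) := ⟨z, le_centralizer hf hQ hz⟩
  let ι : Subgroup.centralizer ({x} : Set (Subgroup.centralizer (Q : Set G))) →* G :=
    (Subgroup.centralizer (Q : Set G)).subtype.comp
      (Subgroup.centralizer ({x} : Set (Subgroup.centralizer (Q : Set G)))).subtype
  have hι : Function.Injective ι := Subtype.val_injective.comp Subtype.val_injective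
  have hr : ι.range = Subgroup.centralizer (S : Set G) := by
    ext w
    constructor
    · rintro ⟨l, rfl⟩
      have hlz : Commute ((l : Subgroup.centralizer (Q : Set G)) : G) z :=
        congrArg Subtype.val (Subgroup.mem_centralizer_singleton_iff.1 l.2)
      have hle : S ≤ Subgroup.centralizer ({ι l} : Set G) := by
        refine sup_le (fun q hq => ?_) (Subgroup.zpowers_le.2 ?_)
        · exact Subgroup.mem_centralizer_singleton_iff.2
            (Subgroup.mem_centralizer_iff.1 (l : Subgroup.centralizer (Q : Set G)).2 q hq)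
        · exact Subgroup.mem_centralizer_singleton_iff.2 hlz.eq.symm
      exact Subgroup.mem_centralizer_iff.2 fun y hy =>
        Subgroup.mem_centralizer_singleton_iff.1 (hle hy)
    · intro hw
      refine ⟨⟨⟨w, centralizer_le_of_le le_sup_left hw⟩,
        Subgroup.mem_centralizer_singleton_iff.2 (Subtype.ext ?_)⟩, rfl⟩
      exact (Subgroup.mem_centralizer_iff.1 hw z
        (Subgroup.mem_sup_right (Subgroup.mem_zpowers z))).symm
  have hd : ∀ θ : IrrCharacter (Subgroup.centralizer (Q : Set G)),
      dval p M P c S z (ext0 _ (θ : Subgroup.centralizer (Q : Set G) → ℂ)) =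
        classInner (fun l : Subgroup.centralizer ({x} : Set (Subgroup.centralizer (Q : Set G))) =>
          (θ : Subgroup.centralizer (Q : Set G) → ℂ) (x * (l : Subgroup.centralizer (Q : Set G))))
          (fun l => psiG (belowPair p M P c S) (ι l)) := fun θ => by
    rw [dval_eq_classInner ι hι hr]
    congr 1
    funext l
    exact ext0_coe _ (θ : Subgroup.centralizer (Q : Set G) → ℂ) (x * (l : Subgroup.centralizer (Q : Set G)))
  simp only [hd]
  have hz' : ∃ k : ℕ, orderOf x = p ^ k := by
    obtain ⟨k, hk⟩ := exists_pow_eq hf hz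
    exact ⟨k, by rw [← hk, ← Subgroup.orderOf_coe]⟩
  rw [sum_classInner_translate_mul hz'
    (isClassFunction_psiG_comp ι (belowPair p M P c S) fun l =>
      show ι l ∈ Subgroup.centralizer (S : Set G) from hr ▸ ⟨l, rfl⟩)
    (psiG_singular hf ι hι hS hS1 hr) (psiG_singular hf ι hι hS hS1 hr)]
  have h := classInner_psiG (M := M) ι hι hr (below_isPBlock hf hS) (below_isPBlock hf hS)
  rw [if_pos rfl, (below_shape hf hS hS1).1] at h
  exact h

/-- Characters outside `B` have no multiplicities. -/
theorem dval_eq_zero_of_not_mem {u : G} (hu : u ∈ P) (hu1 : u ≠ 1) {χ : IrrCharacter G}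
    (hχ : χ ∉ B) : dval p M P c (Subgroup.zpowers u) u (χ : G → ℂ) = 0 := by
  have hS : Subgroup.zpowers u ≤ P := Subgroup.zpowers_le.2 hu
  have hS1 : Subgroup.zpowers u ≠ ⊥ := Subgroup.zpowers_ne_bot.2 hu1
  have key : ∀ H : Subgroup G, H = Subgroup.centralizer ({u} : Set G) →
      ∀ b : Set (IrrCharacter H), IsInducedBlock M H b B → ∀ ξ ∈ b,
        (∀ η ∈ b, (η : H → ℂ) 1 = (ξ : H → ℂ) 1) →
        ∑ η ∈ (Set.toFinite b).toFinset,
          classInner (fun w : H => (χ : G → ℂ) (u * (w : G))) (η : H → ℂ) = 0 := by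
    rintro _ rfl b hb ξ hξ hdeg
    have h := blockPart_eq_zero_of_not_induced hf.modular (exists_pow_eq hf hu) (isPBlock_blockOf χ)
      (mem_blockOf_self χ) (isInducedBlock_iff.1 hb).1
      (fun h => hχ (IsInducedBlock.eq hb h ▸ mem_blockOf_self χ))
      (y := (1 : Subgroup.centralizer ({u} : Set G))) (by simpa using hf.modular.1.ne_one)
    rw [blockPart_eq, finsum_mem_eq_finite_toFinset_sum _ (Set.toFinite b),
      Finset.sum_congr rfl (g := fun η : IrrCharacter (Subgroup.centralizer ({u} : Set G)) =>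
        classInner (fun w : Subgroup.centralizer ({u} : Set G) => (χ : G → ℂ) (u * (w : G)))
          (η : Subgroup.centralizer ({u} : Set G) → ℂ) *
            (ξ : Subgroup.centralizer ({u} : Set G) → ℂ) 1)
        fun η hη => by rw [hdeg η ((Set.Finite.mem_toFinset _).1 hη)], ← Finset.sum_mul] at h
    exact (mul_eq_zero.1 h).resolve_right (Char.IsIrr.apply_one_ne_zero ξ.2)
  obtain ⟨ξ, hξ⟩ := IsPBlock.nonempty (below_isPBlock hf hS)
  exact key _ (centralizer_singleton_eq u).symm _
    (isInducedBlock_of_pairOf hf.modular (below_pairOf hf hS)) ξ hξ fun η hη =>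
      (below_shape hf hS hS1).2.1 η hη ξ hξ 1 (by simpa using hf.modular.1.ne_one)

omit hPab in
theorem dval_conj_eq (g u : G) {f : G → ℂ} (hcl : IsClassFunction G f) :
    dval p M P c (Subgroup.zpowers (g * u * g⁻¹)) (g * u * g⁻¹) f =
      classInner (fun l : Subgroup.centralizer ({u} : Set G) => f (u * (l : G)))
        (fun l : Subgroup.centralizer ({u} : Set G) =>
          psiG (conjPair g⁻¹ (belowPair p M P c (Subgroup.zpowers (g * u * g⁻¹)))) (l : G)) := by
  let ι : Subgroup.centralizer ({u} : Set G) →* G :=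
    (MulAut.conj g).toMonoidHom.comp (Subgroup.centralizer ({u} : Set G)).subtype
  have hι : Function.Injective ι := (MulAut.conj g).injective.comp Subtype.val_injective
  have hr : ι.range = Subgroup.centralizer (Subgroup.zpowers (g * u * g⁻¹) : Set G) := by
    rw [← centralizer_singleton_eq]
    ext w
    constructor
    · rintro ⟨l, rfl⟩
      exact Subgroup.mem_centralizer_singleton_iff.2
        ((show Commute (l : G) u from Subgroup.mem_centralizer_singleton_iff.1 l.2).map
          (MulAut.conj g).toMonoidHom).eq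
    · intro hw
      have h : Commute w (g * u * g⁻¹) := Subgroup.mem_centralizer_singleton_iff.1 hw
      have h2 := h.map (MulAut.conj g⁻¹).toMonoidHom
      refine ⟨⟨g⁻¹ * w * g, Subgroup.mem_centralizer_singleton_iff.2 ?_⟩, ?_⟩
      · simpa [mul_assoc] using h2.eq
      · simp [ι, mul_assoc]
  rw [dval_eq_classInner ι hι hr]
  congr 1
  · funext l
    show f (g * u * g⁻¹ * (g * (l : G) * g⁻¹)) = f (u * (l : G))
    rw [show g * u * g⁻¹ * (g * (l : G) * g⁻¹) = g * (u * (l : G)) * g⁻¹ by group, hcl]
  · funext l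
    rw [psiG_conjPair, inv_inv]
    rfl

/-- A stabilizer element moves the pairs below `(P, c)` to each other. -/
theorem conjPair_belowPair {u : G} (hu : u ∈ P) {t : G} (ht : t ∈ pairStab P c)
    (htu : t * u * t⁻¹ ∈ P) :
    conjPair t (belowPair p M P c (Subgroup.zpowers u)) =
      belowPair p M P c (Subgroup.zpowers (t * u * t⁻¹)) := by
  refine eq_of_subpairLE hf.modular hf.maximal.1.1 ?_
    (below_spec hf (Subgroup.zpowers_le.2 htu)) ?_
  · have h := subpairLE_conjPair (p := p) (M := M) t
      (show Relation.ReflTransGen (NormalSubpairRel p M) (belowPair p M P c (Subgroup.zpowers u))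
        (⟨P, c⟩ : BrauerPairIdx G) from below_spec hf (Subgroup.zpowers_le.2 hu))
    rwa [mem_pairStab_iff_conjPair.1 ht] at h
  · show (Subgroup.zpowers u).map _ = _
    rw [MonoidHom.map_zpowers]
    rfl

/-- The multiplicities are invariant under the stabilizer. -/
theorem dval_stab {u : G} (hu : u ∈ P) {t : G} (ht : t ∈ pairStab P c) (htu : t * u * t⁻¹ ∈ P)
    {f : G → ℂ} (hcl : IsClassFunction G f) :
    dval p M P c (Subgroup.zpowers (t * u * t⁻¹)) (t * u * t⁻¹) f =
      dval p M P c (Subgroup.zpowers u) u f := by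
  rw [dval_conj_eq hf t u hcl, ← conjPair_belowPair hf hu ht htu, ← conjPair_mul, inv_mul_cancel,
    conjPair_one, dval_eq_classInner _ Subtype.val_injective (range_subtype_singleton hf u)]
  rfl

variable [Fintype (IrrCharacter G)]

/-- The multiplicities at elements in different orbits are orthogonal. -/
theorem sum_dval_mul {u w : G} (hu : u ∈ P) (hu1 : u ≠ 1) (hw : w ∈ P) (hw1 : w ≠ 1) :
    ∑ χ : IrrCharacter G, dval p M P c (Subgroup.zpowers u) u (χ : G → ℂ) *
      conj (dval p M P c (Subgroup.zpowers w) w (χ : G → ℂ)) =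
      if ∃ t ∈ pairStab P c, t * u * t⁻¹ = w then (Nat.card P : ℂ) else 0 := by
  have hSu : Subgroup.zpowers u ≤ P := Subgroup.zpowers_le.2 hu
  have hu1' : Subgroup.zpowers u ≠ ⊥ := Subgroup.zpowers_ne_bot.2 hu1
  have hru := range_subtype_singleton hf u
  have hsu := psiG_singular hf _ Subtype.val_injective hSu hu1' hru
  have hdu : ∀ χ : IrrCharacter G, dval p M P c (Subgroup.zpowers u) u (χ : G → ℂ) =
      classInner (fun l : Subgroup.centralizer ({u} : Set G) => (χ : G → ℂ) (u * (l : G)))
        (fun l => psiG (belowPair p M P c (Subgroup.zpowers u)) (l : G)) := fun χ =>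
    dval_eq_classInner _ Subtype.val_injective hru u _
  by_cases hconj : IsConj u w
  swap
  · rw [if_neg fun ⟨t, _, h⟩ => hconj (isConj_iff.2 ⟨t, h⟩)]
    simp only [hdu, dval_eq_classInner _ Subtype.val_injective (range_subtype_singleton hf w)]
    exact sum_classInner_translate_mul_eq_zero (exists_pow_eq hf hu) (exists_pow_eq hf hw) hconj hsu
      (psiG_singular hf _ Subtype.val_injective (Subgroup.zpowers_le.2 hw)
        (Subgroup.zpowers_ne_bot.2 hw1) (range_subtype_singleton hf w))
  obtain ⟨g, rfl⟩ := isConj_iff.1 hconj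
  set a := conjPair g⁻¹ (belowPair p M P c (Subgroup.zpowers (g * u * g⁻¹))) with ha
  obtain ⟨R, f⟩ := a
  obtain rfl : R = Subgroup.zpowers u := by
    have h := congrArg Sigma.fst ha
    rw [show R = (Subgroup.zpowers (g * u * g⁻¹)).map (MulAut.conj g⁻¹).toMonoidHom from h,
      MonoidHom.map_zpowers]
    simp [mul_assoc]
  have hfB : IsPBlock M f := by
    have h := (isBrauerPairOf_conjPair g⁻¹ (a := belowPair p M P c (Subgroup.zpowers (g * u * g⁻¹)))
      (below_pairOf hf (Subgroup.zpowers_le.2 hw))).1.2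
    rwa [← ha] at h
  have hsing : ∀ l : Subgroup.centralizer ({u} : Set G), p ∣ orderOf l →
      psiG ⟨Subgroup.zpowers u, f⟩ (l : G) = 0 := fun l hl => by
    rw [ha, psiG_conjPair, inv_inv]
    refine psiG_singular hf
      ((MulAut.conj g).toMonoidHom.comp (Subgroup.centralizer ({u} : Set G)).subtype)
      ((MulAut.conj g).injective.comp Subtype.val_injective) (Subgroup.zpowers_le.2 hw)
      (Subgroup.zpowers_ne_bot.2 hw1) ?_ l hl
    rw [MonoidHom.range_comp, range_subtype_singleton hf, ← centralizer_singleton_eq,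
      ← centralizer_singleton_eq]
    ext y
    rw [map_conj_eq, Subgroup.mem_centralizer_singleton_iff, Subgroup.mem_centralizer_singleton_iff]
    constructor <;> intro h
    · calc y * (g * u * g⁻¹) = g * ((g⁻¹ * y * g) * u) * g⁻¹ := by group
        _ = g * (u * (g⁻¹ * y * g)) * g⁻¹ := by rw [h]
        _ = g * u * g⁻¹ * y := by group
    · calc g⁻¹ * y * g * u = g⁻¹ * (y * (g * u * g⁻¹)) * g := by group
        _ = g⁻¹ * (g * u * g⁻¹ * y) * g := by rw [h]
        _ = u * (g⁻¹ * y * g) := by group
  simp only [hdu, fun χ : IrrCharacter G =>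
    dval_conj_eq hf g u (Char.IsIrr.isClassFunction χ.2), ← ha]
  refine Eq.trans (sum_classInner_translate_mul (exists_pow_eq hf hu)
    (isClassFunction_psiG_comp (Subgroup.centralizer ({u} : Set G)).subtype
      (⟨Subgroup.zpowers u, f⟩ : BrauerPairIdx G) fun l =>
        show (l : G) ∈ Subgroup.centralizer (Subgroup.zpowers u : Set G) from
          centralizer_singleton_eq u ▸ l.2) hsu hsing) ?_
  refine (classInner_psiG (M := M) _ Subtype.val_injective hru hfB
    (below_isPBlock hf hSu)).trans ?_
  have hiff : f = below p M P c (Subgroup.zpowers u) ↔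
      ∃ t ∈ pairStab P c, t * u * t⁻¹ = g * u * g⁻¹ := by
    constructor
    · intro h
      have hF := isBlockFusionSystemOn_blockFusion hf.modular hf.maximal
      have hb : conjPair g (belowPair p M P c (Subgroup.zpowers u)) =
          belowPair p M P c (Subgroup.zpowers (g * u * g⁻¹)) := by
        rw [belowPair, ← h, ha, ← conjPair_mul, mul_inv_cancel, conjPair_one]
      have hmor : Mor p M P c (Subgroup.zpowers u) g :=
        ⟨below p M P c (Subgroup.zpowers u), below_spec hf hSu, by
          show Relation.ReflTransGen _ (conjPair g (belowPair p M P c (Subgroup.zpowers u))) _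
          rw [hb]
          exact below_spec hf (Subgroup.zpowers_le.2 hw)⟩
      obtain ⟨s, hs, hsz⟩ := exists_stab hf.modular hf.maximal comm_of_isMulCommutative hF
        (φ := conjHom (Subgroup.zpowers u) g) ((mem_hom_iff hF).2 ⟨_, fun _ => rfl, hmor⟩)
      exact ⟨s, hs, (hsz ⟨u, Subgroup.mem_zpowers u⟩).symm⟩
    · rintro ⟨t, ht, htu⟩
      have h1 := conjPair_belowPair hf hu ht (htu ▸ hw)
      have hc : g⁻¹ * t ∈ Subgroup.centralizer (Subgroup.zpowers u : Set G) := by
        rw [← centralizer_singleton_eq, Subgroup.mem_centralizer_singleton_iff]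
        calc g⁻¹ * t * u = g⁻¹ * (t * u * t⁻¹) * t := by group
          _ = g⁻¹ * (g * u * g⁻¹) * t := by rw [htu]
          _ = u * (g⁻¹ * t) := by group
      have h2 : (⟨Subgroup.zpowers u, f⟩ : BrauerPairIdx G) =
          belowPair p M P c (Subgroup.zpowers u) := by
        rw [ha, ← htu, ← h1, ← conjPair_mul]
        exact mem_pairStab_iff_conjPair.1 (centralizer_le_pairStab _ _ hc)
      exact eq_of_heq (Sigma.mk.inj_iff.1 h2).2
  by_cases hh : f = below p M P c (Subgroup.zpowers u)
  · rw [if_pos hh, if_pos (hiff.1 hh), hh, (below_shape hf hSu hu1').1]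
  · rw [if_neg hh, if_neg fun h => hh (hiff.2 h)]

/-- The multiplicities are orthogonal to the degrees. -/
theorem sum_apply_one_mul_dval {u : G} (hu : u ∈ P) (hu1 : u ≠ 1) :
    ∑ χ : IrrCharacter G, (χ : G → ℂ) 1 * dval p M P c (Subgroup.zpowers u) u (χ : G → ℂ) = 0 := by
  have hru := range_subtype_singleton hf u
  simp only [dval_eq_classInner _ Subtype.val_injective hru]
  exact sum_apply_one_mul_classInner_translate (exists_pow_eq hf hu) hu1
    (psiG_singular hf _ Subtype.val_injective (Subgroup.zpowers_le.2 hu)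
      (Subgroup.zpowers_ne_bot.2 hu1) hru)

end CfsgLib.FreeInertial
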