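import Cfsg.Agent.Lib.Blocks.FreeInertial.Trace
import Cfsg.Agent.Lib.Blocks.FreeInertial.GenChar
import Cfsg.Agent.Lib.Blocks.Watanabe.Main
import Cfsg.Agent.Lib.Blocks.EqualDegrees.Rank
import Cfsg.Agent.Lib.Char.AbelianInertia
import Cfsg.Agent.S4689

/-!
# The local blocks of a block with free inertial action

For a maximal pair `(P, c)` with `P` abelian whose stabilizer acts freely, the blocks below
`(P, c)` at nontrivial subgroups have `|P|` characters with equal values at regular elements.
-/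

set_option autoImplicit false

namespace CfsgLib.FreeInertial

open Cfsg MonoidAlgebra CfsgLib.Blocks CfsgLib.Pairs CfsgLib.Star CfsgLib.Watanabe
open scoped Classical ComplexConjugate IsMulCommutative

variable {G : Type*} [Group G] [Fintype G] {p : ℕ} [Fact p.Prime] {M : Ideal AlgInt} [M.IsPrime]
  {B : Set (IrrCharacter G)} {P : Subgroup G}
  {c : Set (IrrCharacter (Subgroup.centralizer (P : Set G)))}

/-- A maximal pair on an abelian group whose stabilizer acts freely. -/
structure IsFree (p : ℕ) (M : Ideal AlgInt) (B : Set (IrrCharacter G)) (P : Subgroup G)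
    (c : Set (IrrCharacter (Subgroup.centralizer (P : Set G)))) : Prop where
  modular : IsPModular p M
  maximal : IsMaximalBrauerPair p M B P c
  free : ∀ g ∈ pairStab P c, ∀ x ∈ P, x ≠ 1 → g * x * g⁻¹ = x →
    g ∈ Subgroup.centralizer (P : Set G)
  ne_bot : P ≠ ⊥

/-- The block below `(P, c)` at `S`. -/
noncomputable def below (p : ℕ) (M : Ideal AlgInt) (P : Subgroup G)
    (c : Set (IrrCharacter (Subgroup.centralizer (P : Set G)))) (S : Subgroup G) :
    Set (IrrCharacter (Subgroup.centralizer (S : Set G))) :=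
  if h : ∃ f, SubpairLE p M S f P c then h.choose else ∅

/-- The sum over the block below `(P, c)` at `S` of the multiplicities in a translate. -/
noncomputable def dval (p : ℕ) (M : Ideal AlgInt) (P : Subgroup G)
    (c : Set (IrrCharacter (Subgroup.centralizer (P : Set G)))) (S : Subgroup G) (z : G)
    (f : G → ℂ) : ℂ :=
  ∑ ξ ∈ (Set.toFinite (below p M P c S)).toFinset,
    classInner (fun w : Subgroup.centralizer (S : Set G) => f (z * (w : G)))
      (ξ : Subgroup.centralizer (S : Set G) → ℂ)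

/-- A function on a subgroup as a function on the group. -/
noncomputable def ext0 (H : Subgroup G) (θ : H → ℂ) (g : G) : ℂ :=
  if h : g ∈ H then θ ⟨g, h⟩ else 0

omit [Fintype G] in
theorem ext0_coe (H : Subgroup G) (θ : H → ℂ) (x : H) : ext0 H θ (x : G) = θ x := by
  simp [ext0]

/-- The rank of an idempotent in the block below `(P, c)` at `S`. -/
noncomputable def rnum (p : ℕ) (M : Ideal AlgInt) [M.IsPrime] (P : Subgroup G)
    (c : Set (IrrCharacter (Subgroup.centralizer (P : Set G)))) (i : MonoidAlgebra (Res M) G)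
    (S : Subgroup G) : ℤ :=
  if h : (below p M P c S).Nonempty then
    CfsgLib.IBr.mult (M := M) (h.choose : Subgroup.centralizer (S : Set G) → ℂ) (resC S i) else 0

variable [hPab : IsMulCommutative ↥P]

omit [Fintype G] in
theorem comm_of_isMulCommutative : ∀ x ∈ P, ∀ y ∈ P, x * y = y * x := fun x hx y hy =>
  congrArg Subtype.val (mul_comm (⟨x, hx⟩ : P) ⟨y, hy⟩)

variable (hf : IsFree p M B P c)
include hf

omit hPab in
theorem exists_pow_eq {x : G} (hx : x ∈ P) : ∃ k : ℕ, orderOf x = p ^ k := by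
  obtain ⟨k, hk⟩ := IsPGroup.iff_orderOf.1 hf.maximal.1.1.1 ⟨x, hx⟩
  exact ⟨k, by rw [← hk, Subgroup.orderOf_mk]⟩

omit hPab in
theorem below_spec {S : Subgroup G} (hS : S ≤ P) :
    SubpairLE p M S (below p M P c S) P c := by
  have h : ∃ f, SubpairLE p M S f P c := by
    obtain ⟨f, -, hle⟩ := exists_below hf.modular (Nat.card P) (Nat.sub_le _ _) hf.maximal.1.1 hS
    exact ⟨f, hle⟩
  rw [below, dif_pos h]
  exact h.choose_spec

omit hPab in
theorem below_unique {S : Subgroup G} (hS : S ≤ P)
    {f : Set (IrrCharacter (Subgroup.centralizer (S : Set G)))} (hle : SubpairLE p M S f P c) :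
    f = below p M P c S :=
  (unique_below hf.modular (Nat.card P) (Nat.sub_le _ _) hf.maximal.1.1).2 f _ hle (below_spec hf hS)

omit hPab in
theorem below_top : below p M P c P = c :=
  (below_unique hf le_rfl Relation.ReflTransGen.refl).symm

omit hPab in
theorem below_pairOf {S : Subgroup G} (hS : S ≤ P) :
    IsBrauerPairOf p M B S (below p M P c S) :=
  (subpairLE_pairOf_iff hf.modular (a := ⟨S, below p M P c S⟩) (below_spec hf hS) B).1 hf.maximal.1

omit hPab in
theorem below_isPBlock {S : Subgroup G} (hS : S ≤ P) : IsPBlock M (below p M P c S) :=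
  (below_pairOf hf hS).1.2

theorem le_centralizer {S : Subgroup G} (hS : S ≤ P) : P ≤ Subgroup.centralizer (S : Set G) :=
  le_centralizer_of_abelian hf.maximal comm_of_isMulCommutative hS

theorem below_normal {Q S : Subgroup G} (hQS : Q ≤ S) (hS : S ≤ P) :
    IsNormalSubpair p M Q (below p M P c Q) S (below p M P c S) := by
  obtain ⟨g, hg, -⟩ := existsUnique_normalSubpair hf.modular (below_pairOf hf hS).1 hQS
    ((hS.trans (le_centralizer hf (hQS.trans hS))).trans (centralizer_le_normalizer' Q))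
  rw [← below_unique hf (hQS.trans hS) (Relation.ReflTransGen.head
    (show NormalSubpairRel p M ⟨Q, g⟩ ⟨S, below p M P c S⟩ from hg) (below_spec hf hS))]
  exact hg

theorem below_isNilpotent {S : Subgroup G} (hS : S ≤ P) (hS1 : S ≠ ⊥) :
    IsNilpotentBlock p M (below p M P c S) :=
  (free_iff_local_nilpotent hf.modular hf.maximal comm_of_isMulCommutative).1 hf.free S hS hS1 _
    (inducedIn_of_subpair hf.modular hf.maximal comm_of_isMulCommutative (below_spec hf hS))

/-- The shape of the block below `(P, c)` at a nontrivial subgroup. -/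
theorem below_shape {S : Subgroup G} (hS : S ≤ P) (hS1 : S ≠ ⊥) :
    Nat.card (below p M P c S) = Nat.card P ∧
      (∀ ξ ∈ below p M P c S, ∀ η ∈ below p M P c S,
        ∀ w : Subgroup.centralizer (S : Set G), ¬ p ∣ orderOf w →
          (ξ : Subgroup.centralizer (S : Set G) → ℂ) w =
            (η : Subgroup.centralizer (S : Set G) → ℂ) w) ∧
      (∀ ξ ∈ below p M P c S,
        blockHeight p (below p M P c S) (ξ : Subgroup.centralizer (S : Set G) → ℂ) = 0) ∧
      localRank p M P c S = 1 := by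
  have hM := hf.modular
  have hnil := below_isNilpotent hf hS hS1
  obtain ⟨f, a, hle, haP, hamax, -, -, -⟩ := local_setting hM hf.maximal comm_of_isMulCommutative hS
  obtain rfl := below_unique hf hS hle
  have hD : IsDefectGroup p M (below p M P c S) a.1 := isDefectGroup_of_maximal hM hamax
  have hacard : Nat.card a.1 = Nat.card P := by
    rw [haP]
    exact CfsgLib.Fusion.card_subgroupOf_eq (le_centralizer hf hS)
  have hacomm : ∀ x y : a.1, x * y = y * x := by
    rw [haP]
    exact fun x y => Subtype.ext (Subtype.ext (by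
      simpa using comm_of_isMulCommutative _ (Subgroup.mem_subgroupOf.1 x.2) _
        (Subgroup.mem_subgroupOf.1 y.2)))
  obtain ⟨χ, -, Φ, -, hΦ⟩ := CfsgLib.Star.exists_param_of_nilpotent hM hnil hD
  have hval : ∀ ξ ∈ below p M P c S, ∀ w : Subgroup.centralizer (S : Set G), ¬ p ∣ orderOf w →
      (ξ : Subgroup.centralizer (S : Set G) → ℂ) w = (χ : Subgroup.centralizer (S : Set G) → ℂ) w := by
    intro ξ hξ w hw
    obtain ⟨η, hη⟩ := Φ.surjective ⟨ξ, hξ⟩
    have h := hΦ η w hw
    rwa [hη, CfsgLib.Clifford.apply_one_eq_one_of_commute hacomm η, one_mul] at h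
  have hdeg : ∀ ξ ∈ below p M P c S, charDegree (ξ : Subgroup.centralizer (S : Set G) → ℂ) =
      charDegree (χ : Subgroup.centralizer (S : Set G) → ℂ) := fun ξ hξ => by
    rw [charDegree, charDegree, hval ξ hξ 1 (by simpa using hM.1.ne_one)]
  have h0 : ∀ ξ ∈ below p M P c S,
      blockHeight p (below p M P c S) (ξ : Subgroup.centralizer (S : Set G) → ℂ) = 0 := by
    intro ξ hξ
    obtain ⟨η, hη, hη0⟩ := exists_height_zero (p := p) ⟨ξ, hξ⟩
    rw [blockHeight] at hη0 ⊢
    rwa [hdeg ξ hξ, ← hdeg η hη]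
  refine ⟨?_, fun ξ hξ η hη w hw => (hval ξ hξ w hw).trans (hval η hη w hw).symm, h0, ?_⟩
  · obtain ⟨D⟩ := CfsgLib.IBr.nonempty_data (G := Subgroup.centralizer (S : Set G)) (M := M)
    obtain ⟨-, -, -, -, hk⟩ :=
      CfsgLib.EqualDegrees.exists_unique_brauer hM hnil.1 hdeg h0 D
    rw [hk, ← hacard, IsDefectGroup.card_eq hM hnil.1 hD]
  · rw [localRank_eq hM hf.maximal.1.1 hle]
    exact (Cfsg.Agent.S4689.result p M hM _ hnil).1

theorem sum_below_apply_singular {S : Subgroup G} (hS : S ≤ P) (hS1 : S ≠ ⊥)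
    {w : Subgroup.centralizer (S : Set G)} (hw : p ∣ orderOf w) :
    ∑ ξ ∈ (Set.toFinite (below p M P c S)).toFinset,
      (ξ : Subgroup.centralizer (S : Set G) → ℂ) w = 0 := by
  obtain ⟨-, hreg, -, -⟩ := below_shape hf hS hS1
  obtain ⟨ξ, hξ⟩ := IsPBlock.nonempty (below_isPBlock hf hS)
  have hone : ¬ p ∣ orderOf (1 : Subgroup.centralizer (S : Set G)) := by
    simpa using hf.modular.1.ne_one
  have h := sum_block_regular_singular hf.modular (below_isPBlock hf hS) hone hw
  rw [finsum_mem_eq_finite_toFinset_sum _ (Set.toFinite _),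
    Finset.sum_congr rfl (g := fun η : IrrCharacter (Subgroup.centralizer (S : Set G)) =>
      (ξ : Subgroup.centralizer (S : Set G) → ℂ) 1 * (η : Subgroup.centralizer (S : Set G) → ℂ) w)
      fun η hη => by rw [hreg η ((Set.Finite.mem_toFinset _).1 hη) ξ hξ 1 hone],
    ← Finset.mul_sum] at h
  exact (mul_eq_zero.1 h).resolve_left (Char.IsIrr.apply_one_ne_zero ξ.2)

/-- The traces of a lift at the members of the block below `(P, c)`. -/
theorem tr_eq_rnum {i : MonoidAlgebra (Res M) G} {S : Subgroup G} (hS : S ≤ P) (hS1 : S ≠ ⊥)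
    (hi : resC S i * resC S i = resC S i)
    {q' : MonoidAlgebra (localRing M) (Subgroup.centralizer (S : Set G))} (hq' : q' * q' = q')
    (hred : red M q' = resC S i) {ξ : IrrCharacter (Subgroup.centralizer (S : Set G))}
    (hξ : ξ ∈ below p M P c S) :
    tr (ξ : Subgroup.centralizer (S : Set G) → ℂ) 1 q' = (rnum p M P c i S : ℂ) := by
  have hne : (below p M P c S).Nonempty := ⟨ξ, hξ⟩
  rw [rnum, dif_pos hne, CfsgLib.IBr.mult_cast hf.modular hne.choose hi,
    sv_eq hf.modular hne.choose (CfsgLib.IBr.isPPart_one hf.modular) hi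
      (CfsgLib.IBr.invUnder_one _) hq' (CfsgLib.IBr.invUnder_one _) (by rw [hred])]
  exact tr_one_congr_regular hf.modular hq' (Char.IsIrr.isClassFunction ξ.2)
    (Char.IsIrr.isClassFunction hne.choose.2)
    ((below_shape hf hS hS1).2.1 ξ hξ _ hne.choose_spec)

/-- Nonvanishing of the residue of a translate with nonzero central character. -/
theorem red0_dval_ne_zero {S : Subgroup G} (hS : S ≤ P) (hS1 : S ≠ ⊥) {z : G} {f : G → ℂ}
    (hcl : IsClassFunction (Subgroup.centralizer (S : Set G))
      fun w : Subgroup.centralizer (S : Set G) => f (z * (w : G)))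
    (hint : ∀ w : Subgroup.centralizer (S : Set G), IsIntegral ℤ (f (z * (w : G))))
    (hD : IsIntegral ℤ (dval p M P c S z f))
    {ξ : IrrCharacter (Subgroup.centralizer (S : Set G))} (hξ : ξ ∈ below p M P c S)
    (hω : omegaBar ξ (red M (regElt (p := p)
      (fun w : Subgroup.centralizer (S : Set G) => f (z * (w : G))) hint)) ≠ 0) :
    red0 M (dval p M P c S z f) ≠ 0 := by
  have hM := hf.modular
  obtain ⟨-, hreg, h0, -⟩ := below_shape hf hS hS1
  have hb := below_isPBlock hf hS
  obtain ⟨k, hk⟩ := exists_blockEval_regElt hM hb hξ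
  have hk0 : k ≠ 0 := by
    obtain ⟨y, hy, hres⟩ := hk _ (Char.IsIrr.isClassFunction ξ.2)
      (Char.IsChar.isIntegral (Char.IsIrr.isCharacter ξ.2))
    rw [finsum_classInner_irr hξ] at hy
    intro e
    exact residue_ne_zero_of_height_zero hM hξ (h0 ξ hξ) hy (by rw [hres, e, zero_mul])
  obtain ⟨y, hy, hres⟩ := hk _ hcl hint
  obtain ⟨n, hn⟩ := exists_degree_eq_minExp_mul (p := p) hξ
  have hy' : y = (⟨dval p M P c S z f, mem_localRing_of_isIntegral hD⟩ : localRing M) * n := by
    refine Subtype.ext (mul_right_cancel₀ (pow_ne_zero (minExp p (below p M P c S))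
      (Nat.cast_ne_zero.2 hM.1.ne_zero : (p : ℂ) ≠ 0)) ?_)
    rw [hy, finsum_mem_eq_finite_toFinset_sum _ (Set.toFinite _),
      Finset.sum_congr rfl (g := fun η : IrrCharacter (Subgroup.centralizer (S : Set G)) => classInner
        (fun w : Subgroup.centralizer (S : Set G) => f (z * (w : G)))
        (η : Subgroup.centralizer (S : Set G) → ℂ) *
          (ξ : Subgroup.centralizer (S : Set G) → ℂ) 1) fun η hη => by
        rw [hreg η ((Set.Finite.mem_toFinset _).1 hη) ξ hξ 1 (by simpa using hM.1.ne_one)],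
      ← Finset.sum_mul, apply_one_eq_charDegree, hn]
    push_cast
    rw [dval]
    ring
  intro h
  refine mul_ne_zero hk0 hω ?_
  rw [← hres, hy', map_mul, mul_eq_zero]
  left
  rw [residue_eq_zero_iff]
  rw [red0, dif_pos hD, Ideal.Quotient.eq_zero_iff_mem] at h
  exact (coe_memLocalIdeal_iff (a := (⟨_, hD⟩ : AlgInt))).2 h

omit hf [M.IsPrime] [Fact p.Prime] in
theorem isIntegral_dval_restrict {H S : Subgroup G} (hCH : Subgroup.centralizer (S : Set G) ≤ H)
    (hS : S ≤ P) {z : G} (hz : z ∈ S) (θ : IrrCharacter H) :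
    IsIntegral ℤ (dval p M P c S z (ext0 H (θ : H → ℂ))) := by
  refine IsIntegral.sum _ fun ξ _ => ?_
  let zL : Subgroup.centralizer (S : Set G) := ⟨z, Subgroup.mem_centralizer_iff.2 fun y hy =>
    comm_of_isMulCommutative y (hS hy) z (hS hz)⟩
  rw [show (fun w : Subgroup.centralizer (S : Set G) => ext0 H (θ : H → ℂ) (z * (w : G))) =
    fun w => (θ : H → ℂ) (Subgroup.inclusion hCH (zL * w)) from funext fun w =>
      ext0_coe H (θ : H → ℂ) (Subgroup.inclusion hCH (zL * w))]
  exact isIntegral_classInner_translate _ θ ξ fun g =>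
    Subtype.ext (Subgroup.mem_centralizer_iff.1 g.2 z hz).symm

omit hf [M.IsPrime] [Fact p.Prime] in
theorem isIntegral_dval_char {S : Subgroup G} (hS : S ≤ P) {z : G} (hz : z ∈ S)
    (χ : IrrCharacter G) : IsIntegral ℤ (dval p M P c S z (χ : G → ℂ)) := by
  refine IsIntegral.sum _ fun ξ _ => ?_
  let zL : Subgroup.centralizer (S : Set G) := ⟨z, Subgroup.mem_centralizer_iff.2 fun y hy =>
    comm_of_isMulCommutative y (hS hy) z (hS hz)⟩
  exact isIntegral_classInner_translate (Subgroup.centralizer (S : Set G)).subtype χ ξ (zL := zL)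
    fun g => Subtype.ext (Subgroup.mem_centralizer_iff.1 g.2 z hz).symm

omit hPab hf [Fintype G] [Fact p.Prime] [M.IsPrime] in
theorem centralizer_singleton_eq (u : G) :
    Subgroup.centralizer ({u} : Set G) =
      Subgroup.centralizer (Subgroup.zpowers u : Set G) := by
  rw [Subgroup.zpowers_eq_closure, Subgroup.centralizer_closure]

/-- At a height zero character the residue of the translate at a nontrivial element is nonzero. -/
theorem red0_dval_char_ne_zero {u : G} (hu : u ∈ P) (hu1 : u ≠ 1) {χ : IrrCharacter G} (hχ : χ ∈ B)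
    (h0 : blockHeight p B (χ : G → ℂ) = 0) :
    red0 M (dval p M P c (Subgroup.zpowers u) u (χ : G → ℂ)) ≠ 0 := by
  have hS : Subgroup.zpowers u ≤ P := Subgroup.zpowers_le.2 hu
  have hS1 : Subgroup.zpowers u ≠ ⊥ := Subgroup.zpowers_ne_bot.2 hu1
  obtain ⟨ξ, hξ⟩ := IsPBlock.nonempty (below_isPBlock hf hS)
  have hcomm : ∀ w : Subgroup.centralizer (Subgroup.zpowers u : Set G), Commute u (w : G) :=
    fun w => Subgroup.mem_centralizer_iff.1 w.2 u (Subgroup.mem_zpowers u)
  refine red0_dval_ne_zero hf hS hS1 (fun w v => ?_)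
    (fun w => Char.IsChar.isIntegral (Char.IsIrr.isCharacter χ.2) _)
    (isIntegral_dval_char hS (Subgroup.mem_zpowers u) χ) hξ
    (omegaBar_translate_ne_zero hf.modular
      (isInducedBlock_of_pairOf hf.modular (below_pairOf hf hS)) hχ h0 (exists_pow_eq hf hu)
      hcomm hξ)
  show (χ : G → ℂ) (u * ((v * w * v⁻¹ : Subgroup.centralizer (Subgroup.zpowers u : Set G)) : G)) = _
  rw [show u * ((v * w * v⁻¹ : Subgroup.centralizer (Subgroup.zpowers u : Set G)) : G) =
      (v : G) * (u * w) * (v : G)⁻¹ by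
    simp only [Subgroup.coe_mul, Subgroup.coe_inv, ← mul_assoc, (hcomm v).eq]]
  exact Char.IsIrr.isClassFunction χ.2 _ _

/-- At the characters of the block below `Q` the residue of the translate is nonzero. -/
theorem red0_dval_local_ne_zero {Q : Subgroup G} (hQ : Q ≤ P) (hQ1 : Q ≠ ⊥) {z : G} (hz : z ∈ P)
    {θ : IrrCharacter (Subgroup.centralizer (Q : Set G))} (hθ : θ ∈ below p M P c Q) :
    red0 M (dval p M P c (Q ⊔ Subgroup.zpowers z) z
      (ext0 _ (θ : Subgroup.centralizer (Q : Set G) → ℂ))) ≠ 0 := by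
  have hM := hf.modular
  set S := Q ⊔ Subgroup.zpowers z with hSdef
  have hS : S ≤ P := sup_le hQ (Subgroup.zpowers_le.2 hz)
  have hS1 : S ≠ ⊥ := ne_bot_of_le_ne_bot hQ1 le_sup_left
  have hCC : Subgroup.centralizer (S : Set G) ≤ Subgroup.centralizer (Q : Set G) :=
    centralizer_le_of_le le_sup_left
  have hzK : z ∈ Subgroup.centralizer (Q : Set G) := le_centralizer hf hQ hz
  obtain ⟨ξ, hξ⟩ := IsPBlock.nonempty (below_isPBlock hf hS)
  obtain ⟨-, hB', -, -, hst, hval⟩ := isNormalSubpair_iff.1 (below_normal hf le_sup_left hS)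
  have hzS : z ∈ S := Subgroup.mem_sup_right (Subgroup.mem_zpowers z)
  have hcomm : ∀ w : Subgroup.centralizer (S : Set G), Commute z (w : G) := fun w =>
    Subgroup.mem_centralizer_iff.1 w.2 z hzS
  have hmem : ∀ w : Subgroup.centralizer (S : Set G), z * (w : G) ∈ Subgroup.centralizer (Q : Set G) :=
    fun w => mul_mem hzK (hCC w.2)
  have heq : ∀ w : Subgroup.centralizer (S : Set G),
      ext0 _ (θ : Subgroup.centralizer (Q : Set G) → ℂ) (z * (w : G)) =
        (θ : Subgroup.centralizer (Q : Set G) → ℂ) ⟨_, hmem w⟩ := fun w => ext0_coe _ _ ⟨_, hmem w⟩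
  have hint : ∀ w : Subgroup.centralizer (S : Set G),
      IsIntegral ℤ (ext0 _ (θ : Subgroup.centralizer (Q : Set G) → ℂ) (z * (w : G))) := fun w => by
    rw [heq]
    exact Char.IsChar.isIntegral (Char.IsIrr.isCharacter θ.2) _
  refine red0_dval_ne_zero hf hS hS1 (fun w v => ?_) hint
    (isIntegral_dval_restrict hCC hS hzS θ) hξ ?_
  · show ext0 _ _ (z * ((v * w * v⁻¹ : Subgroup.centralizer (S : Set G)) : G)) = ext0 _ _ _
    rw [heq, heq, ← Char.IsIrr.isClassFunction θ.2 ⟨_, hmem w⟩ (Subgroup.inclusion hCC v)]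
    refine congrArg _ (Subtype.ext ?_)
    simp only [Subgroup.coe_mul, Subgroup.coe_inv, Subgroup.coe_inclusion, ← mul_assoc,
      (hcomm v).symm.eq]
  · have hθi := Char.IsChar.isIntegral (Char.IsIrr.isCharacter θ.2)
    set X := red M (regElt (p := p) (M := M) (θ : Subgroup.centralizer (Q : Set G) → ℂ) hθi)
    have hX : IsCentralElt X :=
      isCentralElt_red (isCentralElt_regElt (Char.IsIrr.isClassFunction θ.2) hθi)
    set a := inclElt (Subgroup.centralizer (Q : Set G)) X
    have ha : ∀ H : Subgroup G, H ≤ Subgroup.centralizer (Q : Set G) → InvUnder H a := fun H hH =>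
      InvUnder.inclElt (hH.trans Subgroup.le_normalizer) fun u hu k k' hk => by
        rw [show k' = ⟨u, hH hu⟩ * k * ⟨u, hH hu⟩⁻¹ from Subtype.ext hk, hX]
    have hQS : S ≤ Subgroup.centralizer (Q : Set G) := hS.trans (le_centralizer hf hQ)
    have h1 := pairVal_eq_of_pair hM (below_pairOf hf hS).1.1 le_sup_left
      (hQS.trans (centralizer_le_normalizer' Q)) (below_isPBlock hf hQ) hst (hval ξ hξ) hθ
      (ha S hQS) (ha _ le_rfl)
    have h2 : pairVal Q a θ ≠ 0 := by
      rw [pairVal, show resC Q a = X from resElt_inclElt _ _]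
      exact omegaBar_regElt_ne_zero hM (below_isPBlock hf hQ) hθ ((below_shape hf hQ hQ1).2.2.1 θ hθ)
    rw [← h1, pairVal] at h2
    refine fun h => h2 (Eq.trans (congrArg _ (MonoidAlgebra.ext (Finsupp.ext fun w => ?_))) h)
    rw [coeff_resC]
    refine (coeff_inclElt _ X ⟨(w : G), hCC w.2⟩).trans ?_
    simp only [X, coeff_red]
    refine residue_eq_iff.2 ?_
    rw [coeff_regElt, coeff_regElt, heq]
    have hord : orderOf (⟨(w : G), hCC w.2⟩ : Subgroup.centralizer (Q : Set G)) = orderOf w := by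
      rw [← Subgroup.orderOf_coe, ← Subgroup.orderOf_coe w]
    rw [hord]
    split_ifs
    · rw [sub_self]
      exact ⟨0, 1, M.zero_mem, one_notMem, by simp⟩
    · obtain ⟨k, hk⟩ := exists_pow_eq hf hz
      have hc : Commute (⟨z, hzK⟩ : Subgroup.centralizer (Q : Set G))
          (⟨(w : G), hCC w.2⟩⁻¹) := (show Commute (⟨z, hzK⟩ : Subgroup.centralizer (Q : Set G))
            ⟨(w : G), hCC w.2⟩ from Subtype.ext (hcomm w).eq).inv_right
      have h3 := apply_mul_congr hM θ hc ⟨k, by rw [← hk, ← Subgroup.orderOf_coe]⟩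
      rw [show ((θ : Subgroup.centralizer (Q : Set G) → ℂ) ⟨z * ((w⁻¹ :
          Subgroup.centralizer (S : Set G)) : G), hmem w⁻¹⟩) =
        (θ : Subgroup.centralizer (Q : Set G) → ℂ) (⟨z, hzK⟩ * ⟨(w : G), hCC w.2⟩⁻¹) from
        congrArg _ (Subtype.ext (by simp))]
      obtain ⟨x, y, hx, hy, e⟩ := h3
      refine ⟨-x, y, M.neg_mem hx, hy, ?_⟩
      push_cast
      rw [neg_div, e]
      ring

end CfsgLib.FreeInertial
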