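import Cfsg.Agent.Lib.Blocks.FreeInertial.Weights
import Mathlib.GroupTheory.Perm.Cycle.Type
import Mathlib.Data.Finset.Powerset
import Mathlib.Algebra.BigOperators.Ring.Finset

/-!
# Signs correcting the multiplicities to generalized characters

There are signs `ε` on `P`, invariant under the stabilizer, such that `u ↦ ε u * D χ u` is a
generalized character away from `1` for every character `χ`.
-/

set_option autoImplicit false

namespace CfsgLib.FreeInertial

open Cfsg MonoidAlgebra CfsgLib.Blocks CfsgLib.Pairs CfsgLib.Star CfsgLib.Watanabe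
open scoped Classical ComplexConjugate IsMulCommutative

variable {G : Type*} [Group G] [Fintype G] {p : ℕ} [Fact p.Prime] {M : Ideal AlgInt} [M.IsPrime]
  {B : Set (IrrCharacter G)} {P : Subgroup G}
  {c : Set (IrrCharacter (Subgroup.centralizer (P : Set G)))}
  {i : MonoidAlgebra (Res M) G}

/-- The sum of the multiplicities of `χ` at an element of `P`. -/
noncomputable def dfun (p : ℕ) (M : Ideal AlgInt) (P : Subgroup G)
    (c : Set (IrrCharacter (Subgroup.centralizer (P : Set G)))) (χ : IrrCharacter G) (u : P) : ℂ :=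
  dval p M P c (Subgroup.zpowers (u : G)) u (χ : G → ℂ)

/-- The automorphisms of `P` induced by the stabilizer of `(P, c)`. -/
noncomputable def inertAut (P : Subgroup G)
    (c : Set (IrrCharacter (Subgroup.centralizer (P : Set G)))) : Subgroup (MulAut P) :=
  ((pairStab P c).subgroupOf (Subgroup.normalizer (P : Set G))).map (Subgroup.normalizerMonoidHom P)

theorem exists_of_mem_inertAut {σ : MulAut P} (hσ : σ ∈ inertAut P c) :
    ∃ t ∈ pairStab P c, ∀ x : P, ((σ x : P) : G) = t * (x : G) * t⁻¹ := by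
  obtain ⟨t, ht, rfl⟩ := hσ
  exact ⟨t, ht, fun x => rfl⟩

theorem card_inertAut :
    Nat.card (inertAut P c) =
      (Subgroup.centralizer (P : Set G)).relIndex (pairStab P c) := by
  rw [inertAut, ← Subgroup.relIndex_ker, Subgroup.normalizerMonoidHom_ker,
    Subgroup.relIndex_subgroupOf (pairStab_le_normalizer P c)]

theorem exists_mem_inertAut {t : G} (ht : t ∈ pairStab P c) :
    ∃ σ ∈ inertAut P c, ∀ x : P, ((σ x : P) : G) = t * (x : G) * t⁻¹ :=
  ⟨_, Subgroup.mem_map_of_mem _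
    (show (⟨t, pairStab_le_normalizer P c ht⟩ : Subgroup.normalizer (P : Set G)) ∈
      (pairStab P c).subgroupOf (Subgroup.normalizer (P : Set G)) from ht), fun _ => rfl⟩

variable [hPab : IsMulCommutative ↥P] (hf : IsFree p M B P c)
include hf

omit hPab in
theorem inertAut_free {σ : MulAut P} (hσ : σ ∈ inertAut P c) {x : P} (hx : x ≠ 1) (hfix : σ x = x) :
    σ = 1 := by
  obtain ⟨t, ht, htx⟩ := exists_of_mem_inertAut hσ
  have htC := hf.free t ht x x.2 (fun h => hx (Subtype.ext h)) (by rw [← htx, hfix])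
  refine MulEquiv.ext fun y => Subtype.ext ?_
  rw [htx, MulAut.one_apply, ← Subgroup.mem_centralizer_iff.1 htC y y.2, mul_inv_cancel_right]

omit hPab in
theorem not_dvd_card_inertAut : ¬ p ∣ Nat.card (inertAut P c) := by
  intro hd
  obtain ⟨σ, hσ⟩ := exists_prime_orderOf_dvd_card' p hd
  have hσ1 : (σ : MulAut P) ≠ 1 := fun h => by
    rw [OneMemClass.coe_eq_one] at h
    rw [h, orderOf_one] at hσ
    exact (Fact.out : p.Prime).ne_one hσ.symm
  have hp : IsPGroup p (Subgroup.zpowers σ) := IsPGroup.of_card (n := 1) (by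
    rw [Nat.card_zpowers, hσ, pow_one])
  have h := hp.card_modEq_card_fixedPoints (α := P)
  have hfix : Nat.card (MulAction.fixedPoints (Subgroup.zpowers σ) P) = 1 := by
    rw [Nat.card_eq_one_iff_unique]
    refine ⟨⟨fun a b => Subtype.ext ?_⟩, ⟨⟨1, fun g => by
      show ((g : inertAut P c) : MulAut P) 1 = 1
      exact map_one _⟩⟩⟩
    have hone : ∀ a : MulAction.fixedPoints (Subgroup.zpowers σ) P, (a : P) = 1 := fun a => by
      by_contra hne
      exact hσ1 (inertAut_free hf σ.2 hne (a.2 ⟨σ, Subgroup.mem_zpowers σ⟩))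
    rw [hone a, hone b]
  rw [hfix] at h
  obtain ⟨k, hk⟩ := IsPGroup.iff_card.1 (isPGroup_P hf)
  rw [hk] at h
  rcases k with _ | k
  · rw [pow_zero, Subgroup.card_eq_one] at hk
    exact hf.ne_bot hk
  · have h0 : p ^ (k + 1) % p = 0 := Nat.mod_eq_zero_of_dvd (dvd_pow_self p (Nat.succ_ne_zero k))
    rw [Nat.ModEq, h0, Nat.mod_eq_of_lt (Fact.out : p.Prime).one_lt] at h
    exact zero_ne_one h

theorem dfun_inertAut {σ : MulAut P} (hσ : σ ∈ inertAut P c) (χ : IrrCharacter G) (u : P) :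
    dfun p M P c χ (σ u) = dfun p M P c χ u := by
  obtain ⟨t, ht, htx⟩ := exists_of_mem_inertAut hσ
  rw [dfun, dfun, htx]
  exact dval_stab hf u.2 ht (by rw [← htx]; exact (σ u).2) (Char.IsIrr.isClassFunction χ.2)

theorem isIntegral_dfun (χ : IrrCharacter G) (u : P) : IsIntegral ℤ (dfun p M P c χ u) :=
  isIntegral_dval_char (Subgroup.zpowers_le.2 u.2) (Subgroup.mem_zpowers _) χ

omit hPab in
theorem exists_ne_one : ∃ u : P, u ≠ 1 := by
  obtain ⟨x, hx, hx1⟩ := P.bot_or_exists_ne_one.resolve_left hf.ne_bot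
  exact ⟨⟨x, hx⟩, fun h => hx1 (congrArg Subtype.val h)⟩

include i in
theorem exists_sign_raw (hi : GoodIdem p M P c i) :
    ∃ ε : P → ℤ, (∀ u, ε u = 1 ∨ ε u = -1) ∧ ∀ χ : IrrCharacter G,
      ∃ F : P → ℂ, IsGen F ∧ ∀ u, u ≠ 1 → F u = (ε u : ℂ) * dfun p M P c χ u := by
  have hM := hf.modular
  have hA := isPGroup_P hf
  obtain ⟨W, hWor, hWc, hWg⟩ := exists_weights hf hi
  have := Fintype.ofFinite (Subgroup G)
  set Lines : Finset (Subgroup G) :=
    Finset.univ.filter (fun R => R ≤ P ∧ Nat.card R = p) with hLines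
  have hline : ∀ R ∈ Lines, R ≤ P ∧ R ≠ ⊥ := fun R hR => by
    refine ⟨(Finset.mem_filter.1 hR).2.1, fun h => ?_⟩
    have h2 := (Finset.mem_filter.1 hR).2.2
    rw [h, Subgroup.card_bot] at h2
    exact hM.1.ne_one h2.symm
  have hsup : ∀ X ∈ Lines.powerset.erase ∅, X.sup id ≤ P ∧ X.sup id ≠ ⊥ := by
    intro X hX
    obtain ⟨hne, hX'⟩ := Finset.mem_erase.1 hX
    obtain ⟨R, hR⟩ := Finset.nonempty_iff_ne_empty.2 hne
    have hXL := Finset.mem_powerset.1 hX'
    refine ⟨Finset.sup_le fun R' hR' => (hline R' (hXL hR')).1, fun h => (hline R (hXL hR)).2 ?_⟩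
    exact le_bot_iff.1 (h ▸ (Finset.le_sup (f := id) hR : id R ≤ X.sup id))
  let w : P → ℂ := fun z => ∑ X ∈ Lines.powerset.erase ∅,
    (((-1 : ℤ) ^ (X.card + 1) : ℤ) : ℂ) * (W (X.sup id ⊔ Subgroup.zpowers (z : G)) : ℂ)
  have hwgen : IsGen w := IsGen.sum _ fun X hX =>
    IsGen.intMul _ (hWg _ (hsup X hX).1 (hsup X hX).2)
  -- a line inside every cyclic subgroup
  have hLu : ∀ u : P, u ≠ 1 → ∃ L0 ∈ Lines, L0 ≤ Subgroup.zpowers (u : G) := by
    intro u hu
    have hd : p ∣ Nat.card (Subgroup.zpowers (u : G)) := by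
      obtain ⟨k, hk⟩ := exists_pow_eq hf u.2
      rw [Nat.card_zpowers, hk]
      refine dvd_pow_self p fun h => hu (Subtype.ext ?_)
      rw [h, pow_zero, orderOf_eq_one_iff] at hk
      exact hk
    obtain ⟨y, hy⟩ := exists_prime_orderOf_dvd_card' p hd
    refine ⟨Subgroup.zpowers (y : G), Finset.mem_filter.2 ⟨Finset.mem_univ _,
      (Subgroup.zpowers_le.2 y.2).trans (Subgroup.zpowers_le.2 u.2), ?_⟩, Subgroup.zpowers_le.2 y.2⟩
    rw [Nat.card_zpowers, Subgroup.orderOf_coe, hy]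
  have hwu : ∀ u : P, u ≠ 1 → w u = (W (Subgroup.zpowers (u : G)) : ℂ) := by
    intro u hu
    obtain ⟨L0, hL0, hL0u⟩ := hLu u hu
    let F : Finset (Subgroup G) → ℂ := fun X =>
      (((-1 : ℤ) ^ (X.card + 1) : ℤ) : ℂ) * (W (X.sup id ⊔ Subgroup.zpowers (u : G)) : ℂ)
    have hzero : ∑ X ∈ Lines.powerset, F X = 0 := by
      rw [← Finset.insert_erase hL0, Finset.sum_powerset_insert (Finset.notMem_erase L0 Lines),
        ← Finset.sum_add_distrib]
      refine Finset.sum_eq_zero fun X hX => ?_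
      have hnm : L0 ∉ X := fun h => Finset.notMem_erase L0 Lines (Finset.mem_powerset.1 hX h)
      have hsame : (insert L0 X).sup id ⊔ Subgroup.zpowers (u : G) =
          X.sup id ⊔ Subgroup.zpowers (u : G) := by
        rw [Finset.sup_insert, id, sup_assoc]
        exact sup_eq_right.2 (hL0u.trans le_sup_right)
      simp only [F, hsame, Finset.card_insert_of_notMem hnm, pow_succ]
      push_cast
      ring
    rw [← Finset.add_sum_erase _ _ (Finset.empty_mem_powerset Lines)] at hzero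
    have hempty : F ∅ = -(W (Subgroup.zpowers (u : G)) : ℂ) := by simp [F]
    show ∑ X ∈ Lines.powerset.erase ∅, F X = _
    rw [hempty] at hzero
    linear_combination hzero
  have hne : Lines.Nonempty := by
    obtain ⟨u, hu⟩ := exists_ne_one hf
    obtain ⟨L0, h, -⟩ := hLu u hu
    exact ⟨L0, h⟩
  let c1 : ℤ := ∑ X ∈ Lines.powerset.erase ∅, (-1 : ℤ) ^ (X.card + 1) * W (X.sup id)
  have hw1 : w 1 = (c1 : ℂ) := by
    simp only [w, c1]
    push_cast
    simp [Subgroup.zpowers_one_eq_bot]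
  have hc1 : ¬ (p : ℤ) ∣ c1 := by
    intro hd
    have h1 : ∑ X ∈ Lines.powerset.erase ∅, (-1 : ℤ) ^ (X.card + 1) = 1 := by
      have h := Finset.sum_powerset_neg_one_pow_card_of_nonempty hne
      rw [← Finset.add_sum_erase _ _ (Finset.empty_mem_powerset Lines), Finset.card_empty,
        pow_zero] at h
      simp only [pow_succ, mul_neg, mul_one, Finset.sum_neg_distrib]
      linarith
    have h2 : (p : ℤ) ∣ c1 - W P := by
      have : c1 - W P = ∑ X ∈ Lines.powerset.erase ∅, (-1 : ℤ) ^ (X.card + 1) * (W (X.sup id) - W P) := by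
        simp only [c1, mul_sub, Finset.sum_sub_distrib, ← Finset.sum_mul, h1, one_mul]
      rw [this]
      exact Finset.dvd_sum fun X hX => dvd_mul_of_dvd_right (hWc _ (hsup X hX).1 (hsup X hX).2) _
    have h3 : (p : ℤ) ∣ W P := by
      have h := dvd_sub hd h2
      rwa [sub_sub_cancel] at h
    refine not_dvd_rnum hf hi P le_rfl hf.ne_bot ?_
    rcases hWor P with h | h <;> rw [h] at h3
    · exact h3
    · exact dvd_neg.1 h3
  let ε : P → ℤ := fun u =>
    if W (Subgroup.zpowers (u : G)) = rnum p M P c i (Subgroup.zpowers (u : G)) then 1 else -1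
  have hεor : ∀ u, ε u = 1 ∨ ε u = -1 := fun u => by
    by_cases h : W (Subgroup.zpowers (u : G)) = rnum p M P c i (Subgroup.zpowers (u : G))
    · exact Or.inl (if_pos h)
    · exact Or.inr (if_neg h)
  refine ⟨ε, hεor, fun χ => ?_⟩
  obtain ⟨T, hT, hTu⟩ := exists_tau_global hf hi χ
  refine exists_gen_off_one hM hA hwgen hw1 hc1
    (f := fun u => (ε u : ℂ) * dfun p M P c χ u)
    (fun u _ => (isIntegral_intCast' _).mul (isIntegral_dfun hf χ u)) hT fun u hu => ?_
  rw [hTu u hu, hwu u hu]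
  show dfun p M P c χ u * _ = _
  by_cases h : W (Subgroup.zpowers (u : G)) = rnum p M P c i (Subgroup.zpowers (u : G))
  · rw [show ε u = 1 from if_pos h, ← h]
    push_cast
    ring
  · rw [show ε u = -1 from if_neg h, (hWor _).resolve_left h]
    push_cast
    ring

/-- Invariant signs correcting the multiplicities. -/
theorem exists_sign_fun :
    ∃ ε : P → ℤ, (∀ u, ε u = 1 ∨ ε u = -1) ∧
      (∀ σ ∈ inertAut P c, ∀ u, u ≠ 1 → ε (σ u) = ε u) ∧
      ∀ χ : IrrCharacter G,
        ∃ F : P → ℂ, IsGen F ∧ ∀ u, u ≠ 1 → F u = (ε u : ℂ) * dfun p M P c χ u := by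
  have hM := hf.modular
  have hA := isPGroup_P hf
  obtain ⟨i, hi⟩ := exists_goodIdem hf
  obtain ⟨ε, hε, hF⟩ := exists_sign_raw hf hi
  obtain ⟨χ₀, hχ₀, h0⟩ := exists_height_zero (p := p) (IsPBlock.nonempty hf.maximal.1.2.1)
  have hD0 : ∀ u : P, u ≠ 1 → red0 M (dfun p M P c χ₀ u) ≠ 0 := fun u hu =>
    red0_dval_char_ne_zero hf u.2 (fun h => hu (Subtype.ext h)) hχ₀ h0
  choose F hFg hFe using hF
  have hF1 : ∀ u : P, u ≠ 1 →
      red0 M (F χ₀ 1) = red0 M (ε u : ℂ) * red0 M (dfun p M P c χ₀ u) := fun u hu => by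
    rw [← (hFg χ₀).red_eq hM hA u, hFe χ₀ u hu,
      red0_mul (isIntegral_intCast' _) (isIntegral_dfun hf χ₀ u)]
  obtain ⟨u₀, hu₀⟩ := exists_ne_one hf
  have hF10 : red0 M (F χ₀ 1) ≠ 0 := by
    have := hM.2.1.isPrime
    rw [hF1 u₀ hu₀]
    refine mul_ne_zero (fun h => ?_) (hD0 u₀ hu₀)
    rw [red0_eq_zero_iff_dvd hM] at h
    rcases hε u₀ with e | e <;> rw [e] at h
    · exact hM.1.ne_one (Nat.dvd_one.1 (by exact_mod_cast h))
    · exact hM.1.ne_one (Nat.dvd_one.1 (by exact_mod_cast (dvd_neg.1 h)))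
  by_cases hp2 : p = 2
  swap
  · refine ⟨ε, hε, fun σ hσ u hu => ?_, fun χ => ⟨F χ, hFg χ, hFe χ⟩⟩
    have hσu : σ u ≠ 1 := fun h => hu (σ.injective (h.trans (map_one σ).symm))
    have h := (hF1 u hu).symm.trans (hF1 (σ u) hσu)
    rw [dfun_inertAut hf hσ] at h
    have := hM.2.1.isPrime
    have h' := mul_right_cancel₀ (hD0 u hu) h
    rw [red0_intCast, red0_intCast, ← sub_eq_zero, ← Int.cast_sub, ← red0_intCast,
      red0_eq_zero_iff_dvd hM] at h'
    have hp3 : 3 ≤ p := by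
      have := hM.1.two_le
      omega
    by_contra hne
    have h2 : ε u - ε (σ u) = 2 ∨ ε u - ε (σ u) = -2 := by
      rcases hε u with e | e <;> rcases hε (σ u) with e' | e' <;> omega
    rcases h2 with e | e <;> rw [e] at h' <;>
      have h3 := Int.natAbs_dvd_natAbs.2 h' <;> simp at h3 <;>
      exact absurd (Nat.le_of_dvd two_pos h3) (by omega)
  -- the product over the inertial group
  have := Fintype.ofFinite (inertAut P c)
  let g : P → ℂ := fun u => F χ₀ u * conj (F χ₀ u)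
  have hg : IsGen g := (hFg χ₀).mul (hFg χ₀).conj
  obtain ⟨a, ha⟩ := (hFg χ₀).exists_int_one
  have hg1 : g 1 = ((a * a : ℤ) : ℂ) := by
    simp only [g, ha, map_intCast, Int.cast_mul]
  have hga : ¬ (p : ℤ) ∣ a * a := fun h => hF10 (by
    rw [ha, red0_eq_zero_iff_dvd hM]
    exact ((Nat.prime_iff_prime_int.1 hM.1).dvd_mul.1 h).elim id id)
  have key : ∀ (m : ℕ) (s : Finset (inertAut P c)), s.card = 2 * m + 1 → ∀ χ : IrrCharacter G,
      ∃ E : P → ℂ, IsGen E ∧ ∀ u, u ≠ 1 →
        E u = (∏ σ ∈ s, (ε ((σ : MulAut P) u) : ℂ)) * dfun p M P c χ u := by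
    intro m
    induction m with
    | zero =>
      intro s hs χ
      obtain ⟨σ, rfl⟩ := Finset.card_eq_one.1 hs
      refine ⟨fun u => F χ ((σ : MulAut P) u), (hFg χ).comp _, fun u hu => ?_⟩
      show F χ ((σ : MulAut P) u) = _
      rw [hFe χ _ fun h => hu ((σ : MulAut P).injective (h.trans (map_one _).symm)),
        dfun_inertAut hf σ.2, Finset.prod_singleton]
    | succ m ih =>
      intro s hs χ
      obtain ⟨x, hx⟩ := Finset.card_pos.1 (by omega : 0 < s.card)
      obtain ⟨y, hy⟩ := Finset.card_pos.1 (show 0 < (s.erase x).card by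
        rw [Finset.card_erase_of_mem hx]; omega)
      obtain ⟨E, hE, hEe⟩ := ih ((s.erase x).erase y) (by
        rw [Finset.card_erase_of_mem hy, Finset.card_erase_of_mem hx]; omega) χ
      refine exists_gen_off_one hM hA hg hg1 hga
        (f := fun u => (∏ σ ∈ s, (ε ((σ : MulAut P) u) : ℂ)) * dfun p M P c χ u)
        (fun u _ => (IsIntegral.prod _ fun σ _ => isIntegral_intCast' _).mul (isIntegral_dfun hf χ u))
        (G0 := fun u => E u * (F χ₀ ((x : MulAut P) u) * conj (F χ₀ ((y : MulAut P) u))))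
        (hE.mul (((hFg χ₀).comp _).mul ((hFg χ₀).comp _).conj)) fun u hu => ?_
      have hne : ∀ σ : MulAut P, σ u ≠ 1 := fun σ h => hu (σ.injective (h.trans (map_one σ).symm))
      show E u * _ = _ * (F χ₀ u * conj (F χ₀ u))
      rw [hEe u hu, hFe χ₀ u hu, hFe χ₀ _ (hne _), hFe χ₀ _ (hne _), dfun_inertAut hf x.2,
        dfun_inertAut hf y.2, map_mul, map_mul, map_intCast, map_intCast,
        ← Finset.mul_prod_erase s _ hx, ← Finset.mul_prod_erase (s.erase x) _ hy]
      have hu2 : ((ε u : ℤ) : ℂ) * (ε u : ℂ) = 1 := by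
        rcases hε u with e | e <;> simp [e]
      linear_combination (-((ε ((x : MulAut P) u) : ℂ) * (ε ((y : MulAut P) u) : ℂ) *
        (∏ σ ∈ (s.erase x).erase y, (ε ((σ : MulAut P) u) : ℂ)) * dfun p M P c χ u *
          dfun p M P c χ₀ u * conj (dfun p M P c χ₀ u))) * hu2
  have hodd : ¬ 2 ∣ Fintype.card (inertAut P c) := by
    rw [← Nat.card_eq_fintype_card]
    exact hp2 ▸ not_dvd_card_inertAut hf
  refine ⟨fun u => ∏ σ : inertAut P c, ε ((σ : MulAut P) u), fun u => ?_, fun τ hτ u _ => ?_,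
    fun χ => ?_⟩
  · exact Finset.prod_induction _ (fun v : ℤ => v = 1 ∨ v = -1)
      (fun v v' hv hv' => by rcases hv with rfl | rfl <;> rcases hv' with rfl | rfl <;> simp)
      (Or.inl rfl) fun σ _ => hε _
  · exact Fintype.prod_equiv (Equiv.mulRight (⟨τ, hτ⟩ : inertAut P c)) _ _ fun σ => rfl
  · obtain ⟨E, hE, hEe⟩ := key (Fintype.card (inertAut P c) / 2) Finset.univ (by
      rw [Finset.card_univ]; omega) χ
    exact ⟨E, hE, fun u hu => by rw [hEe u hu]; push_cast; rfl⟩

end CfsgLib.FreeInertial
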