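import Cfsg.Agent.Lib.Blocks.FreeInertial.Orth
import Cfsg.Agent.Lib.Blocks.Star.Local

/-!
# Trace functions of a suitable idempotent
-/

set_option autoImplicit false

namespace CfsgLib.FreeInertial

open Cfsg MonoidAlgebra CfsgLib.Blocks CfsgLib.Pairs CfsgLib.Star CfsgLib.Watanabe CfsgLib.IBr
open scoped Classical ComplexConjugate IsMulCommutative

variable {G : Type*} [Group G] [Fintype G] {p : ℕ} [Fact p.Prime] {M : Ideal AlgInt} [M.IsPrime]
  {B : Set (IrrCharacter G)} {P : Subgroup G}
  {c : Set (IrrCharacter (Subgroup.centralizer (P : Set G)))}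

/-- An idempotent fixed by `P` following the pairs below `(P, c)` with rank prime to `p` at `P`. -/
structure GoodIdem (p : ℕ) (M : Ideal AlgInt) [M.IsPrime] (P : Subgroup G)
    (c : Set (IrrCharacter (Subgroup.centralizer (P : Set G)))) (i : MonoidAlgebra (Res M) G) : Prop where
  idem : i * i = i
  inv : InvUnder P i
  low : ∀ S ≤ P, blockIdemBar M (below p M P c S) * resC S i = resC S i
  top : ¬ (p : ℤ) ∣ rnum p M P c i P

variable [hPab : IsMulCommutative ↥P] (hf : IsFree p M B P c)
include hf

theorem exists_goodIdem : ∃ i : MonoidAlgebra (Res M) G, GoodIdem p M P c i := by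
  have hM := hf.modular
  have := charP_residueField hM
  have hPp := hf.maximal.1.1.1
  have hc : IsPBlock M c := hf.maximal.1.1.2
  have htop : below p M P c P = c := below_top hf
  have hne : (below p M P c P).Nonempty := IsPBlock.nonempty (below_isPBlock hf le_rfl)
  set ξ := hne.choose with hξdef
  have hξ : ξ ∈ c := htop ▸ hne.choose_spec
  obtain ⟨hcard, hreg, h0, -⟩ := below_shape hf le_rfl hf.ne_bot
  rw [htop] at hreg h0
  obtain ⟨D⟩ := nonempty_data (G := Subgroup.centralizer (P : Set G)) (M := M)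
  obtain ⟨δ₀, -, -, hrow, -⟩ := CfsgLib.EqualDegrees.exists_unique_brauer hM hc
    (f := charDegree (ξ : Subgroup.centralizer (P : Set G) → ℂ)) (fun η hη => by
      rw [charDegree, charDegree, hreg η hη ξ hξ 1 (by simpa using hM.1.ne_one)]) h0 D
  obtain ⟨q, hq, hqi, hqr⟩ := exists_lift_idem (D.hε δ₀) (invUnder_one (D.ε δ₀))
  set ε := D.ε δ₀ * blockIdemBar M c with hεdef
  have hεε : ε * ε = ε := by
    rw [hεdef, mul_assoc, ← mul_assoc (blockIdemBar M c),
      ((isCentralElt_blockIdemBar hc).commute (D.ε δ₀)).eq, mul_assoc, blockIdemBar_mul_self hc,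
      ← mul_assoc, D.hε]
  have hεmult : mult (M := M) (ξ : Subgroup.centralizer (P : Set G) → ℂ) ε = 1 := by
    refine Int.cast_injective (α := ℂ) ?_
    have hQ : q * blockIdemO M c * (q * blockIdemO M c) = q * blockIdemO M c := by
      rw [mul_assoc, ← mul_assoc (blockIdemO M c),
        ((isCentralElt_blockIdemO hc).commute q).eq, mul_assoc, blockIdemO_mul_self hc,
        ← mul_assoc, hq]
    rw [mult_cast hM ξ hεε, sv_eq hM ξ (CfsgLib.IBr.isPPart_one hM) hεε (invUnder_one _) hQ
      (invUnder_one _) (by rw [map_mul, hqr]; rfl), tr_mul_blockIdemO_self hc hξ,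
      ← sv_eq hM ξ (CfsgLib.IBr.isPPart_one hM) (D.hε δ₀) (invUnder_one _) hq hqi (by rw [hqr]),
      ← mult_cast hM ξ (D.hε δ₀), ← D.dec_cast, (hrow ξ hξ).1]
    simp
  let A := fixAlg (Res M) (P ⊔ (⊥ : Subgroup G))
  have hU : ∀ e : A, InvUnder P (e : MonoidAlgebra (Res M) G) := fun e => e.2.mono le_sup_left
  let N : A → ℤ := fun e =>
    mult (M := M) (ξ : Subgroup.centralizer (P : Set G) → ℂ) (resC P (e : MonoidAlgebra (Res M) G))
  have hrid : ∀ e : A, e * e = e → resC P (e : MonoidAlgebra (Res M) G) * resC P e = resC P e :=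
    fun e he => by rw [← resC_mul hPp (hU e) (hU e), show (e : MonoidAlgebra (Res M) G) * e = e from
      congrArg Subtype.val he]
  let C : A → Prop := fun e => blockIdemBar M c * resC P (e : MonoidAlgebra (Res M) G) =
    resC P e → ¬ (p : ℤ) ∣ N e → ∃ i : MonoidAlgebra (Res M) G, GoodIdem p M P c i
  have hε' : inclElt _ ε ∈ A := invUnder_sup
    (InvUnder.inclElt (Subgroup.le_normalizer.trans (normalizer_le_normalizer_centralizer P))
      fun u hu k k' hk => by
        rw [show k' = k from Subtype.ext (by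
          rw [hk, Subgroup.mem_centralizer_iff.1 k.2 u hu, mul_inv_cancel_right])])
    (fun u hu x => by rw [Subgroup.mem_bot.1 hu]; simp)
  have hres : resC P (inclElt _ ε) = ε := resElt_inclElt _ _
  refine idem_induction (k := Res M) (C := C) ?_ ?_ ?_
    (i := (⟨_, hε'⟩ : A)) (Subtype.ext (by
      show inclElt _ ε * inclElt _ ε = inclElt _ ε
      rw [← map_mul, hεε])) ?_ ?_
  · intro _ h
    refine absurd ?_ h
    have h2 := mult_add hM ξ (0 : MonoidAlgebra (Res M) (Subgroup.centralizer (P : Set G))) 0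
      (mul_zero 0) (mul_zero 0) (mul_zero 0) (mul_zero 0)
    rw [add_zero] at h2
    simp only [N, ZeroMemClass.coe_zero, resC_zero]
    rw [show mult (M := M) (ξ : Subgroup.centralizer (P : Set G) → ℂ)
      (0 : MonoidAlgebra (Res M) (Subgroup.centralizer (P : Set G))) = 0 by omega]
    exact dvd_zero _
  · intro i hi hblock hN
    have hc' : ∀ s ∈ (⊥ : Subgroup G), ∀ u ∈ P, Commute s u := fun s hs u _ => by
      rw [Subgroup.mem_bot.1 hs]; exact Commute.one_left u
    have hne0 : resC P (i : MonoidAlgebra (Res M) G) ≠ 0 := fun h => hN (by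
      have h2 := mult_add hM ξ (0 : MonoidAlgebra (Res M) (Subgroup.centralizer (P : Set G))) 0
        (mul_zero 0) (mul_zero 0) (mul_zero 0) (mul_zero 0)
      rw [add_zero] at h2
      simp only [N, h]
      rw [show mult (M := M) (ξ : Subgroup.centralizer (P : Set G) → ℂ)
        (0 : MonoidAlgebra (Res M) (Subgroup.centralizer (P : Set G))) = 0 by omega]
      exact dvd_zero _)
    refine ⟨(i : MonoidAlgebra (Res M) G), prim_idem hi, hU i, fun S hS => ?_, ?_⟩
    · exact below_of_prim hM hi hPp hc' (by simpa using hM.1.ne_one) hne0 hc hblock (Nat.card P) S hS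
        (Nat.sub_le _ _) _ (below_spec hf hS)
    · rw [rnum, dif_pos hne]
      exact hN
  · intro e f he hf' hef hfe hCe hCf hblock hN
    have hsum : resC P ((e + f : A) : MonoidAlgebra (Res M) G) =
        resC P (e : MonoidAlgebra (Res M) G) + resC P f := resC_add _ _ _
    have h1 : resC P (e : MonoidAlgebra (Res M) G) * resC P f = 0 := by
      rw [← resC_mul hPp (hU e) (hU f), show (e : MonoidAlgebra (Res M) G) * f = 0 from
        congrArg Subtype.val hef, resC_zero]
    have h2 : resC P (f : MonoidAlgebra (Res M) G) * resC P e = 0 := by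
      rw [← resC_mul hPp (hU f) (hU e), show (f : MonoidAlgebra (Res M) G) * e = 0 from
        congrArg Subtype.val hfe, resC_zero]
    have hcut : ∀ x y : MonoidAlgebra (Res M) (Subgroup.centralizer (P : Set G)), x * x = x →
        x * y = 0 → blockIdemBar M c * (x + y) = x + y → blockIdemBar M c * x = x := by
      intro x y hx hxy hb
      have h3 : x * (x + y) = x := by rw [mul_add, hx, hxy, add_zero]
      calc blockIdemBar M c * x = blockIdemBar M c * (x * (x + y)) := by rw [h3]
        _ = x * (blockIdemBar M c * (x + y)) := by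
          rw [← mul_assoc, ((isCentralElt_blockIdemBar hc).commute x).eq, mul_assoc]
        _ = x := by rw [hb, h3]
    have hN' : N (e + f) = N e + N f := by
      simp only [N, hsum]
      exact mult_add hM ξ _ _ (hrid e he) (hrid f hf') h1 h2
    rw [hsum] at hblock
    by_cases hNe : (p : ℤ) ∣ N e
    · refine hCf (hcut _ (resC P (e : MonoidAlgebra (Res M) G)) (hrid f hf') h2 ?_) fun h => hN ?_
      · rwa [add_comm]
      · rw [hN']
        exact dvd_add hNe h
    · exact hCe (hcut _ _ (hrid e he) h1 hblock) hNe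
  · show blockIdemBar M c * resC P (inclElt _ ε) = resC P (inclElt _ ε)
    rw [hres, hεdef, ← mul_assoc, ((isCentralElt_blockIdemBar hc).commute (D.ε δ₀)).eq, mul_assoc,
      blockIdemBar_mul_self hc]
  · show ¬ (p : ℤ) ∣ mult _ (resC P (inclElt _ ε))
    rw [hres, hεmult]
    intro h
    exact hM.1.ne_one (Nat.dvd_one.1 (by exact_mod_cast h))

variable {i : MonoidAlgebra (Res M) G} (hi : GoodIdem p M P c i)
include hi

omit hPab in
theorem resC_idem {S : Subgroup G} (hS : S ≤ P) : resC S i * resC S i = resC S i := by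
  have := charP_residueField hf.modular
  rw [← resC_mul (hf.maximal.1.1.1.to_le hS) (hi.inv.mono hS) (hi.inv.mono hS), hi.idem]

/-- Traces at an element factor through the block below `(P, c)`. -/
theorem tr_eq_dval {K : Type*} [Group K] [Fintype K] {S : Subgroup G} (hS : S ≤ P) (hS1 : S ≠ ⊥)
    (ι : Subgroup.centralizer (S : Set G) →* K) (hι : Function.Injective ι) {z : K}
    (hz : ∃ k : ℕ, orderOf z = p ^ k) (hrange : ∀ w : K, (∃ l, ι l = w) ↔ Commute w z)
    (θ : IrrCharacter K) {q : MonoidAlgebra (localRing M) K} (hq : q * q = q)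
    (hinv : InvUnder (Subgroup.zpowers z) q)
    (hred : ∀ l : Subgroup.centralizer (S : Set G),
      resHom M (q.coeff (ι l)) = i.coeff (l : G)) :
    tr (θ : K → ℂ) z q = (∑ ξ ∈ (Set.toFinite (below p M P c S)).toFinset,
      classInner (fun l => (θ : K → ℂ) (z * ι l)) (ξ : Subgroup.centralizer (S : Set G) → ℂ)) *
        (rnum p M P c i S : ℂ) := by
  have := Fintype.ofFinite (IrrCharacter (Subgroup.centralizer (S : Set G)))
  have hb := below_isPBlock hf hS
  obtain ⟨q₀, hq₀, -, hq₀r⟩ := exists_lift_idem (resC_idem hf hi hS) (invUnder_one _)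
  set q' := q₀ * blockIdemO M (below p M P c S) with hq'def
  have hq' : q' * q' = q' := by
    rw [hq'def, mul_assoc, ← mul_assoc (blockIdemO M (below p M P c S)),
      ((isCentralElt_blockIdemO hb).commute q₀).eq, mul_assoc, blockIdemO_mul_self hb,
      ← mul_assoc, hq₀]
  have hq'r : red M q' = resC S i := by
    rw [hq'def, map_mul, hq₀r, ← blockIdemBar, ← ((isCentralElt_blockIdemBar hb).commute _).eq,
      hi.low S hS]
  rw [tr_eq_sum hf.modular ι hι hz hrange θ hq hinv hq' fun l => by
      rw [hred, ← coeff_red, hq'r, coeff_resC], Finset.sum_mul,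
    ← Finset.sum_subset (Finset.subset_univ (Set.toFinite (below p M P c S)).toFinset)
      fun ξ _ hξ => by
        rw [tr_mul_blockIdemO_eq_zero hb (fun h => hξ ((Set.Finite.mem_toFinset _).2 h)), mul_zero]]
  exact Finset.sum_congr rfl fun ξ hξ => by
    rw [tr_eq_rnum hf hS hS1 (resC_idem hf hi hS) hq' hq'r ((Set.Finite.mem_toFinset _).1 hξ)]

/-- The trace function of a character of the group. -/
theorem exists_tau_global (χ : IrrCharacter G) :
    ∃ T : P → ℂ, IsGen T ∧ ∀ u : P, u ≠ 1 →
      T u = dval p M P c (Subgroup.zpowers (u : G)) u (χ : G → ℂ) *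
        (rnum p M P c i (Subgroup.zpowers (u : G)) : ℂ) := by
  obtain ⟨q, hq, hqP, hqr⟩ := exists_lift_idem hi.idem hi.inv
  refine ⟨fun u => tr (χ : G → ℂ) u q, fun lam => ?_, fun u hu => ?_⟩
  · have := Fintype.ofFinite (⊥ : Subgroup G)
    let α : G → ℂ := fun g => if h : g ∈ P then ((lam⁻¹ ⟨g, h⟩ : ℂˣ) : ℂ) else 0
    obtain ⟨n, hn⟩ := exists_int_sum_tr (M := M) χ (U := P) (S := (⊥ : Subgroup G))
      (fun s hs u _ => by rw [Subgroup.mem_bot.1 hs]; exact Commute.one_left u)
      (α := α) (β := fun _ => 1) (fun x hx y hy => by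
        simp only [α]
        rw [dif_pos hx, dif_pos hy, dif_pos (mul_mem hx hy), ← Units.val_mul, ← map_mul]
        rfl)
      (fun x _ y _ => (mul_one _).symm) hq hqP (fun u hu x => by rw [Subgroup.mem_bot.1 hu]; simp)
    refine ⟨n, ?_⟩
    have h0 : ((default : (⊥ : Subgroup G)) : G) = 1 := Subgroup.mem_bot.1 (default : (⊥ : Subgroup G)).2
    simp only [Fintype.sum_unique, h0, mul_one, Nat.card_unique, Nat.cast_one] at hn
    rw [coef, inv_mul_eq_iff_eq_mul₀ card_ne_zero']
    convert hn using 1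
    · refine Finset.sum_congr rfl fun u _ => ?_
      simp only [α, dif_pos u.2, Subtype.coe_eta, MonoidHom.inv_apply, map_inv]
    · rw [mul_comm]
  · have hS : Subgroup.zpowers (u : G) ≤ P := Subgroup.zpowers_le.2 u.2
    have hS1 : Subgroup.zpowers (u : G) ≠ ⊥ :=
      Subgroup.zpowers_ne_bot.2 fun h => hu (Subtype.ext h)
    exact tr_eq_dval hf hi hS hS1 (Subgroup.centralizer (Subgroup.zpowers (u : G) : Set G)).subtype
      Subtype.val_injective (exists_pow_eq hf u.2) (fun w => by
        rw [← centralizer_singleton_eq]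
        exact ⟨fun ⟨l, hl⟩ => hl ▸ Subgroup.mem_centralizer_singleton_iff.1 l.2,
          fun h => ⟨⟨w, Subgroup.mem_centralizer_singleton_iff.2 h.eq⟩, rfl⟩⟩)
      χ hq (hqP.mono hS) fun l => by rw [← coeff_red, hqr]; rfl

/-- The trace function of a character of a local centralizer. -/
theorem exists_tau_local {Q : Subgroup G} (hQ : Q ≤ P) (hQ1 : Q ≠ ⊥)
    (θ : IrrCharacter (Subgroup.centralizer (Q : Set G))) :
    ∃ T : P → ℂ, IsGen T ∧ (∀ z : P,
      T z = dval p M P c (Q ⊔ Subgroup.zpowers (z : G)) z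
          (ext0 _ (θ : Subgroup.centralizer (Q : Set G) → ℂ)) *
        (rnum p M P c i (Q ⊔ Subgroup.zpowers (z : G)) : ℂ)) ∧
      (θ ∉ below p M P c Q → ∀ z, T z = 0) := by
  have hM := hf.modular
  have := charP_residueField hM
  have hPK := le_centralizer hf hQ
  have hb := below_isPBlock hf hQ
  obtain ⟨q₀, hq₀, hq₀P, hq₀r⟩ := exists_lift_idem (H := P.subgroupOf (Subgroup.centralizer (Q : Set G))) (resC_idem hf hi hQ)
    (fun u hu x => by
      rw [coeff_resC, coeff_resC]
      simpa using hi.inv (u : G) hu (x : G))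
  set q := q₀ * blockIdemO M (below p M P c Q) with hqdef
  have hq : q * q = q := by
    rw [hqdef, mul_assoc, ← mul_assoc (blockIdemO M (below p M P c Q)),
      ((isCentralElt_blockIdemO hb).commute q₀).eq, mul_assoc, blockIdemO_mul_self hb,
      ← mul_assoc, hq₀]
  have hqP : InvUnder (P.subgroupOf (Subgroup.centralizer (Q : Set G))) q :=
    hq₀P.mul (InvUnder.of_isCentralElt _ (isCentralElt_blockIdemO hb))
  have hqr : red M q = resC Q i := by
    rw [hqdef, map_mul, hq₀r, ← blockIdemBar, ← ((isCentralElt_blockIdemBar hb).commute _).eq,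
      hi.low Q hQ]
  refine ⟨fun z => tr (θ : (Subgroup.centralizer (Q : Set G)) → ℂ) ⟨z, hPK z.2⟩ q, fun lam => ?_, fun z => ?_, fun h z => ?_⟩
  · have := Fintype.ofFinite (⊥ : Subgroup (Subgroup.centralizer (Q : Set G)))
    let α : (Subgroup.centralizer (Q : Set G)) → ℂ := fun g => if h : (g : G) ∈ P then ((lam⁻¹ ⟨g, h⟩ : ℂˣ) : ℂ) else 0
    obtain ⟨n, hn⟩ := exists_int_sum_tr (M := M) θ (U := P.subgroupOf (Subgroup.centralizer (Q : Set G))) (S := (⊥ : Subgroup (Subgroup.centralizer (Q : Set G))))
      (fun s hs u _ => by rw [Subgroup.mem_bot.1 hs]; exact Commute.one_left u)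
      (α := α) (β := fun _ => 1) (fun x hx y hy => by
        have hx' : (x : G) ∈ P := hx
        have hy' : (y : G) ∈ P := hy
        simp only [α]
        rw [dif_pos hx', dif_pos hy', dif_pos (show ((x * y : (Subgroup.centralizer (Q : Set G))) : G) ∈ P from mul_mem hx' hy'),
          ← Units.val_mul, ← map_mul]
        rfl)
      (fun x _ y _ => (mul_one _).symm) hq hqP (fun u hu x => by rw [Subgroup.mem_bot.1 hu]; simp)
    refine ⟨n, ?_⟩
    have h0 : ((default : (⊥ : Subgroup (Subgroup.centralizer (Q : Set G)))) : (Subgroup.centralizer (Q : Set G))) = 1 :=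
      Subgroup.mem_bot.1 (default : (⊥ : Subgroup (Subgroup.centralizer (Q : Set G)))).2
    simp only [Fintype.sum_unique, h0, mul_one, Nat.card_unique, Nat.cast_one] at hn
    rw [CfsgLib.Fusion.card_subgroupOf_eq hPK] at hn
    rw [coef, inv_mul_eq_iff_eq_mul₀ card_ne_zero']
    convert hn using 1
    · refine Fintype.sum_equiv (Subgroup.subgroupOfEquivOfLe hPK).symm.toEquiv _ _ fun u => ?_
      simp only [α]
      rw [dif_pos (Subgroup.mem_subgroupOf.1 ((Subgroup.subgroupOfEquivOfLe hPK).symm.toEquiv u).2)]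
      simp [MonoidHom.inv_apply, Subgroup.subgroupOfEquivOfLe]
    · rw [mul_comm]
  · set S := Q ⊔ Subgroup.zpowers (z : G) with hSdef
    have hS : S ≤ P := sup_le hQ (Subgroup.zpowers_le.2 z.2)
    have hCC : Subgroup.centralizer (S : Set G) ≤ (Subgroup.centralizer (Q : Set G)) := centralizer_le_of_le le_sup_left
    refine Eq.trans (tr_eq_dval hf hi hS (ne_bot_of_le_ne_bot hQ1 le_sup_left)
      (Subgroup.inclusion hCC) (Subgroup.inclusion_injective hCC) ?_ (fun w => ?_) θ hq
      (hqP.mono (Subgroup.zpowers_le.2 (Subgroup.mem_subgroupOf.2 z.2))) fun l => ?_) ?_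
    · obtain ⟨k, hk⟩ := exists_pow_eq hf z.2
      exact ⟨k, by rw [← hk, ← Subgroup.orderOf_coe]⟩
    · constructor
      · rintro ⟨l, rfl⟩
        exact Subtype.ext (Subgroup.mem_centralizer_iff.1 l.2 z
          (Subgroup.mem_sup_right (Subgroup.mem_zpowers _))).symm
      · intro h
        refine ⟨⟨w, Subgroup.mem_centralizer_iff.2 fun y hy => ?_⟩, rfl⟩
        have hle : S ≤ Subgroup.centralizer ({(w : G)} : Set G) := by
          refine sup_le (fun t ht => ?_) (Subgroup.zpowers_le.2 ?_)
          · exact Subgroup.mem_centralizer_singleton_iff.2 (Subgroup.mem_centralizer_iff.1 w.2 t ht)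
          · exact Subgroup.mem_centralizer_singleton_iff.2 (congrArg Subtype.val h.eq).symm
        exact Subgroup.mem_centralizer_singleton_iff.1 (hle hy)
    · rw [← coeff_red, hqr, coeff_resC]
      rfl
    · congr 1
      refine Finset.sum_congr rfl fun ξ _ => ?_
      congr 1
      funext l
      exact (ext0_coe (Subgroup.centralizer (Q : Set G)) (θ : (Subgroup.centralizer (Q : Set G)) → ℂ) (⟨z, hPK z.2⟩ * Subgroup.inclusion hCC l)).symm
  · exact tr_mul_blockIdemO_eq_zero hb h _ _

end CfsgLib.FreeInertial
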