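import Cfsg.Agent.Lib.Blocks.FreeInertial.GenChar
import Mathlib.RingTheory.RootsOfUnity.Minpoly

/-!
# Integer valued generalized characters of abelian `2`-groups modulo `4`

The residues modulo `4` of such a function with odd values are those of a linear character up to
a constant sign.
-/

set_option autoImplicit false

namespace CfsgLib.FreeInertial

open Cfsg Polynomial
open scoped Classical ComplexConjugate

variable {A : Type*} [CommGroup A] [Fintype A]

/-- Multiplicities in a rational valued function are constant on powers prime to the order. -/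
theorem coef_pow_eq {f : A → ℂ} {z : A → ℤ} (hz : ∀ a, f a = z a) {lam : A →* ℂˣ} {n : ℤ}
    (hn : coef f lam = n) {j : ℕ} (hj : j.Coprime (Nat.card A)) : coef f (lam ^ j) = n := by
  have hN : Nat.card A ≠ 0 := Nat.card_pos.ne'
  have hζ := Complex.isPrimitiveRoot_exp (Nat.card A) hN
  set ζ := Complex.exp (2 * Real.pi * Complex.I / (Nat.card A : ℕ)) with hζdef
  have : NeZero (Nat.card A) := ⟨hN⟩
  choose e he using fun a : A => hζ.eq_pow_of_pow_eq_one (ξ := ((lam a⁻¹ : ℂˣ) : ℂ))
    (by rw [← Units.val_pow_eq_pow_val, ← map_pow, pow_card_eq_one', map_one, Units.val_one])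
  let P : ℤ[X] := (∑ a : A, Polynomial.C (z a) * X ^ e a) - Polynomial.C ((Nat.card A : ℤ) * n)
  have heval : ∀ m : ℕ, aeval (ζ ^ m) P =
      ∑ a : A, ((lam a⁻¹ : ℂˣ) : ℂ) ^ m * f a - (Nat.card A : ℂ) * n := fun m => by
    simp only [P, map_sub, map_sum, map_mul, map_pow, aeval_C, aeval_X, hz, algebraMap_int_eq,
      eq_intCast, map_intCast, map_natCast, Int.cast_mul, Int.cast_natCast]
    congr 1
    refine Finset.sum_congr rfl fun a _ => ?_
    rw [← (he a).2, ← pow_mul, ← pow_mul, mul_comm (e a) m, mul_comm]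
  have h0 : aeval ζ P = 0 := by
    have h := heval 1
    simp only [pow_one] at h
    rw [h, ← hn, coef, mul_inv_cancel_left₀ card_ne_zero', sub_self]
  have hj0 : aeval (ζ ^ j) P = 0 := by
    have hdvd := minpoly.isIntegrallyClosed_dvd (hζ.isIntegral (Nat.pos_of_ne_zero hN)) h0
    rw [hζ.minpoly_eq_pow_coprime hj] at hdvd
    obtain ⟨Q, hQ⟩ := hdvd
    rw [hQ, map_mul, minpoly.aeval, zero_mul]
  rw [heval, sub_eq_zero] at hj0
  rw [coef, Finset.sum_congr rfl (g := fun a => ((lam a⁻¹ : ℂˣ) : ℂ) ^ j * f a) fun a _ => by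
    rw [MonoidHom.pow_apply, Units.val_pow_eq_pow_val], hj0,
    inv_mul_cancel_left₀ card_ne_zero']

/-- The normalised trace of a root of unity of `2`-power order. -/
noncomputable def trTwo (x : ℂ) : ℤ := if x = 1 then 1 else if x = -1 then -1 else 0

theorem sum_odd_pow {x : ℂ} {k : ℕ} (hx : x ^ (2 ^ (k + 1)) = 1) :
    ∑ j ∈ Finset.range (2 ^ k), x ^ (2 * j + 1) = (2 : ℂ) ^ k * trTwo x := by
  have hsum : ∑ j ∈ Finset.range (2 ^ k), x ^ (2 * j + 1) =
      x * ∑ j ∈ Finset.range (2 ^ k), (x * x) ^ j := by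
    rw [Finset.mul_sum]
    exact Finset.sum_congr rfl fun j _ => by rw [pow_succ', pow_mul, sq]
  rw [hsum, trTwo]
  by_cases h1 : x = 1
  · simp [h1]
  by_cases h2 : x = -1
  · subst h2
    rw [if_neg h1, if_pos rfl]
    simp
  · have hne : x * x ≠ 1 := fun h => by
      rcases mul_eq_zero.1 (show (x - 1) * (x + 1) = 0 by linear_combination h) with h | h
      · exact h1 (sub_eq_zero.1 h)
      · exact h2 (eq_neg_of_add_eq_zero_left h)
    rw [geom_sum_eq hne, ← sq, ← pow_mul, ← pow_succ', hx]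
    simp [h1, h2]

theorem trTwo_parity {x y : ℂ} (hx : x ^ 4 = 1) (hy : y ^ 4 = 1) :
    (2 : ℤ) ∣ trTwo (x * y) - trTwo x - trTwo y + 1 := by
  have hcases : ∀ {w : ℂ}, w ^ 4 = 1 →
      w = 1 ∨ w = -1 ∨ w = Complex.I ∨ w = -Complex.I := by
    intro w hw
    rcases mul_eq_zero.1 (show (w ^ 2 - 1) * (w ^ 2 + 1) = 0 by linear_combination hw) with h | h
    · rcases mul_eq_zero.1 (show (w - 1) * (w + 1) = 0 by linear_combination h) with h | h
      · exact Or.inl (sub_eq_zero.1 h)
      · exact Or.inr (Or.inl (eq_neg_of_add_eq_zero_left h))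
    · rcases mul_eq_zero.1 (show (w - Complex.I) * (w + Complex.I) = 0 by
        linear_combination h - Complex.I_sq) with h | h
      · exact Or.inr (Or.inr (Or.inl (sub_eq_zero.1 h)))
      · exact Or.inr (Or.inr (Or.inr (eq_neg_of_add_eq_zero_left h)))
  have hI1 : (Complex.I : ℂ) ≠ 1 := fun h => by simpa using congrArg Complex.re h
  have hI2 : (Complex.I : ℂ) ≠ -1 := fun h => by simpa using congrArg Complex.re h
  have hJ1 : -(Complex.I : ℂ) ≠ 1 := fun h => by simpa using congrArg Complex.re h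
  have hJ2 : -(Complex.I : ℂ) ≠ -1 := fun h => by simpa using congrArg Complex.re h
  have h11 : (-1 : ℂ) ≠ 1 := fun h => by
    have := congrArg Complex.re h
    norm_num at this
  rcases hcases hx with rfl | rfl | rfl | rfl <;> rcases hcases hy with rfl | rfl | rfl | rfl <;>
    simp [trTwo, hI1, hI2, hJ1, hJ2, h11]

theorem orderOf_pow_even_dvd {G : Type*} [Group G] (l : G) {i : ℕ} (hi : orderOf l = 2 ^ (i + 1))
    (d : ℕ) : orderOf (l ^ (2 * d)) ∣ 2 ^ i := by
  refine orderOf_dvd_of_pow_eq_one ?_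
  rw [← pow_mul, show 2 * d * 2 ^ i = 2 ^ (i + 1) * d by ring, pow_mul, ← hi, pow_orderOf_eq_one,
    one_pow]

/-- Second differences of integer valued generalized characters are divisible by `4`. -/
theorem four_dvd_second_difference (hA : IsPGroup 2 A) {f : A → ℂ} (hf : IsGen f) {z : A → ℤ}
    (hz : ∀ a, f a = z a) (a b : A) : (4 : ℤ) ∣ z (a * b) - z a - z b + z 1 := by
  have := Fintype.ofFinite (A →* ℂˣ)
  obtain ⟨n, hn, hexp⟩ := hf.exists_expansion
  let F : (A →* ℂˣ) → ℂ := fun l =>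
    (n l : ℂ) * ((((l a : ℂˣ) : ℂ) - 1) * (((l b : ℂˣ) : ℂ) - 1))
  have hS : ((z (a * b) - z a - z b + z 1 : ℤ) : ℂ) = ∑ l, F l := by
    push_cast
    rw [← hz, ← hz, ← hz, ← hz, hexp, hexp a, hexp b, hexp 1, ← Finset.sum_sub_distrib,
      ← Finset.sum_sub_distrib, ← Finset.sum_add_distrib]
    exact Finset.sum_congr rfl fun l _ => by simp [F]; ring
  obtain ⟨k, hk⟩ := IsPGroup.iff_card.1 hA
  have hfib : ∀ K : Subgroup (A →* ℂˣ), ∃ w : ℤ,
      ∑ l ∈ Finset.univ.filter (fun l => Subgroup.zpowers l = K), F l = (4 : ℂ) * w := by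
    intro K
    by_cases hK : ∃ l, Subgroup.zpowers l = K
    swap
    · push Not at hK
      exact ⟨0, by rw [Finset.filter_eq_empty_iff.2 fun l _ => hK l]; simp⟩
    obtain ⟨l, rfl⟩ := hK
    have hord : orderOf l ∣ 2 ^ k := by
      rw [← hk]
      refine orderOf_dvd_of_pow_eq_one (MonoidHom.ext fun c => ?_)
      show l c ^ Nat.card A = 1
      rw [← map_pow, pow_card_eq_one', map_one]
    obtain ⟨i, -, hi⟩ := (Nat.dvd_prime_pow Nat.prime_two).1 hord
    have hmem : ∀ m, Subgroup.zpowers m = Subgroup.zpowers l ↔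
        m ∈ Subgroup.zpowers l ∧ orderOf m = orderOf l := fun m =>
      ⟨fun h => ⟨h ▸ Subgroup.mem_zpowers m, by rw [← Nat.card_zpowers, h, Nat.card_zpowers]⟩,
        fun h => Subgroup.eq_of_le_of_card_ge (Subgroup.zpowers_le.2 h.1)
          (by rw [Nat.card_zpowers, Nat.card_zpowers, h.2])⟩
    rcases i with _ | i
    · -- the trivial character
      rw [pow_zero, orderOf_eq_one_iff] at hi
      refine ⟨0, Eq.trans (Finset.sum_eq_zero fun m hm => ?_) (by simp)⟩
      have h := ((hmem m).1 (Finset.mem_filter.1 hm).2).1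
      rw [hi, Subgroup.zpowers_one_eq_bot, Subgroup.mem_bot] at h
      simp [F, h]
    set x := ((l a : ℂˣ) : ℂ) with hxdef
    set y := ((l b : ℂˣ) : ℂ) with hydef
    have hval : ∀ c : A, ((l c : ℂˣ) : ℂ) ^ (2 ^ (i + 1)) = 1 := fun c => by
      rw [← Units.val_pow_eq_pow_val, ← MonoidHom.pow_apply, ← hi, pow_orderOf_eq_one,
        MonoidHom.one_apply, Units.val_one]
    have hcop : ∀ j, (2 * j + 1).Coprime (Nat.card A) := fun j => by
      rw [hk]
      exact ((Nat.prime_two.coprime_iff_not_dvd).2 (by omega)).symm.pow_right k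
    have hbij : ∑ m ∈ Finset.univ.filter (fun m => Subgroup.zpowers m = Subgroup.zpowers l), F m =
        ∑ j ∈ Finset.range (2 ^ i), F (l ^ (2 * j + 1)) := by
      symm
      refine Finset.sum_bij (fun j _ => l ^ (2 * j + 1)) (fun j _ => ?_) (fun j hj j' hj' h => ?_)
        (fun m hm => ?_) fun j _ => rfl
      · refine Finset.mem_filter.2 ⟨Finset.mem_univ _, (hmem _).2
          ⟨Subgroup.pow_mem _ (Subgroup.mem_zpowers l) _, Nat.Coprime.orderOf_pow ?_⟩⟩
        rw [hi]
        exact ((Nat.prime_two.coprime_iff_not_dvd).2 (by omega)).pow_left _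
      · have h1 := (pow_inj_mod (x := l)).1 h
        rw [hi] at h1
        have e2 : 2 ^ (i + 1) = 2 * 2 ^ i := pow_succ' 2 i
        rw [Finset.mem_range] at hj hj'
        rw [Nat.mod_eq_of_lt (by omega), Nat.mod_eq_of_lt (by omega)] at h1
        omega
      · obtain ⟨hm1, hm2⟩ := (hmem m).1 (Finset.mem_filter.1 hm).2
        rw [← SetLike.mem_coe, ← (isOfFinOrder_of_finite l).powers_eq_zpowers] at hm1
        obtain ⟨c, hc⟩ := hm1
        have hc' : l ^ (c % orderOf l) = m := by rw [pow_mod_orderOf]; exact hc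
        have hodd : ¬ 2 ∣ c % orderOf l := by
          rintro ⟨d, hd⟩
          have h2 := orderOf_pow_even_dvd l hi d
          rw [show l ^ (2 * d) = m by rw [← hd]; exact hc', hm2, hi] at h2
          exact absurd (Nat.le_of_dvd (pow_pos two_pos i) h2)
            (not_le.2 (Nat.pow_lt_pow_right one_lt_two (Nat.lt_succ_self i)))
        have hlt : c % orderOf l < 2 ^ (i + 1) := hi ▸ Nat.mod_lt _ (orderOf_pos l)
        refine ⟨c % orderOf l / 2, Finset.mem_range.2 ?_, ?_⟩
        · have e2 : 2 ^ (i + 1) = 2 * 2 ^ i := pow_succ' 2 i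
          omega
        · rw [show 2 * (c % orderOf l / 2) + 1 = c % orderOf l by omega, hc']
    let T : ℤ := trTwo (x * y) - trTwo x - trTwo y + 1
    have hT : ∑ j ∈ Finset.range (2 ^ i), F (l ^ (2 * j + 1)) = (n l : ℂ) * ((2 : ℂ) ^ i * T) := by
      have hn' : ∀ j, n (l ^ (2 * j + 1)) = n l := fun j => by
        have h1 := coef_pow_eq hz (hn l) (hcop j)
        rw [hn] at h1
        exact_mod_cast h1
      simp only [F, hn', ← Finset.mul_sum, MonoidHom.pow_apply, Units.val_pow_eq_pow_val,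
        ← hxdef, ← hydef]
      congr 1
      rw [Finset.sum_congr rfl (g := fun j =>
        (x * y) ^ (2 * j + 1) - x ^ (2 * j + 1) - y ^ (2 * j + 1) + 1) fun j _ => by rw [mul_pow]; ring,
        Finset.sum_add_distrib, Finset.sum_sub_distrib, Finset.sum_sub_distrib,
        sum_odd_pow (by rw [mul_pow, hval a, hval b, one_mul]), sum_odd_pow (hval a),
        sum_odd_pow (hval b)]
      simp only [T, Finset.sum_const, Finset.card_range, nsmul_eq_mul, mul_one]
      push_cast
      ring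
    obtain ⟨w, hw⟩ : (4 : ℤ) ∣ (2 : ℤ) ^ i * T := by
      rcases i with _ | _ | i
      · -- order two
        have hx2 : x = 1 ∨ x = -1 := sq_eq_one_iff.1 (hval a)
        have hy2 : y = 1 ∨ y = -1 := sq_eq_one_iff.1 (hval b)
        have h11 : (-1 : ℂ) ≠ 1 := fun h => by
          have := congrArg Complex.re h
          norm_num at this
        rcases hx2 with h | h <;> rcases hy2 with h' | h' <;> simp [T, trTwo, h, h', h11]
      · obtain ⟨d, hd⟩ := trTwo_parity (x := x) (y := y) (hval a) (hval b)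
        exact ⟨d, by simp only [T, hd]; ring⟩
      · exact dvd_mul_of_dvd_left ⟨2 ^ i, by ring⟩ _
    refine ⟨n l * w, ?_⟩
    rw [hbij, hT]
    have hw' := congrArg (fun v : ℤ => (v : ℂ)) hw
    push_cast at hw' ⊢
    rw [hw']
    ring
  choose w hw using hfib
  refine ⟨∑ K ∈ Finset.univ.image Subgroup.zpowers, w K, ?_⟩
  have h := hS
  rw [← Finset.sum_fiberwise_of_maps_to (g := fun l : A →* ℂˣ => Subgroup.zpowers l)
    (t := Finset.univ.image Subgroup.zpowers)
    fun l _ => Finset.mem_image_of_mem _ (Finset.mem_univ l),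
    Finset.sum_congr rfl fun K _ => hw K, ← Finset.mul_sum] at h
  exact_mod_cast h

/-- The signs making an odd integer valued generalized character `1` modulo `4` form a linear
character up to a constant. -/
theorem exists_sign (hA : IsPGroup 2 A) {f : A → ℂ} (hf : IsGen f) {z : A → ℤ}
    (hz : ∀ a, f a = z a) (hodd : ∀ a, ¬ (2 : ℤ) ∣ z a) :
    ∃ g : A → ℂ, IsGen g ∧ ∀ a, ∃ z' : ℤ, g a = z' ∧ (z' = z a ∨ z' = -z a) ∧ (4 : ℤ) ∣ z' - 1 := by
  let s : A → ℤ := fun a => if (4 : ℤ) ∣ z a - 1 then 1 else -1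
  have hs : ∀ a, s a = 1 ∧ (4 : ℤ) ∣ z a - 1 ∨ s a = -1 ∧ (4 : ℤ) ∣ z a + 1 := fun a => by
    by_cases h : (4 : ℤ) ∣ z a - 1
    · exact Or.inl ⟨if_pos h, h⟩
    · exact Or.inr ⟨if_neg h, by have := hodd a; omega⟩
  have hmul : ∀ a b, s (a * b) * s 1 = s a * s b := fun a b => by
    have h := four_dvd_second_difference hA hf hz a b
    rcases hs (a * b) with ⟨e1, d1⟩ | ⟨e1, d1⟩ <;> rcases hs 1 with ⟨e2, d2⟩ | ⟨e2, d2⟩ <;>
      rcases hs a with ⟨e3, d3⟩ | ⟨e3, d3⟩ <;> rcases hs b with ⟨e4, d4⟩ | ⟨e4, d4⟩ <;>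
        simp only [e1, e2, e3, e4] <;> omega
  have hss : ∀ a, s a * s a = 1 := fun a => by
    rcases hs a with ⟨e, -⟩ | ⟨e, -⟩ <;> simp [e]
  let ν : A →* ℂˣ :=
    { toFun := fun a => Units.map (Int.castRingHom ℂ).toMonoidHom
        ⟨s a * s 1, s a * s 1, by linear_combination s 1 * s 1 * hss a + hss 1,
          by linear_combination s 1 * s 1 * hss a + hss 1⟩
      map_one' := Units.ext (by simp [hss 1])
      map_mul' := fun a b => Units.ext (by
        simp only [Units.coe_map, RingHom.toMonoidHom_eq_coe, MonoidHom.coe_coe, eq_intCast,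
          Units.val_mul]
        rw [← Int.cast_mul]
        congr 1
        linear_combination hmul a b - s a * s b * hss 1) }
  refine ⟨fun a => (s 1 : ℂ) * (((ν a : ℂˣ) : ℂ) * f a), IsGen.intMul _ ((IsGen.lam ν).mul hf),
    fun a => ⟨s a * z a, ?_, ?_, ?_⟩⟩
  · show (s 1 : ℂ) * ((((s a * s 1 : ℤ)) : ℂ) * f a) = _
    rw [hz]
    have h := congrArg (fun v : ℤ => (v : ℂ)) (hss 1)
    push_cast at h ⊢
    linear_combination (s a : ℂ) * (z a : ℂ) * h
  · rcases hs a with ⟨e, -⟩ | ⟨e, -⟩ <;> simp [e]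
  · rcases hs a with ⟨e, d⟩ | ⟨e, d⟩ <;> simp only [e] <;> omega

end CfsgLib.FreeInertial
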