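import Cfsg.Agent.Lib.Blocks.FreeInertial.TraceFn
import Cfsg.Agent.Lib.Blocks.FreeInertial.TwoAdicSign
import Cfsg.Agent.Lib.Blocks.Star.Positive

/-!
# Signed ranks forming generalized characters

The ranks of a good idempotent below `(P, c)` are prime to `p`, and suitable signs make
`z ↦ W (Q ⊔ ⟨z⟩)` a generalized character for every nontrivial `Q ≤ P`.
-/

set_option autoImplicit false

namespace CfsgLib.FreeInertial

open Cfsg MonoidAlgebra CfsgLib.Blocks CfsgLib.Pairs CfsgLib.Star CfsgLib.Watanabe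
open scoped Classical ComplexConjugate IsMulCommutative

variable {G : Type*} [Group G] [Fintype G] {p : ℕ} [Fact p.Prime] {M : Ideal AlgInt} [M.IsPrime]
  {B : Set (IrrCharacter G)} {P : Subgroup G}
  {c : Set (IrrCharacter (Subgroup.centralizer (P : Set G)))}
  {i : MonoidAlgebra (Res M) G}

variable [hPab : IsMulCommutative ↥P] (hf : IsFree p M B P c)
include hf

omit hPab in
theorem isPGroup_P : IsPGroup p P := hf.maximal.1.1.1

theorem dval_one {Q : Subgroup G}
    {θ : IrrCharacter (Subgroup.centralizer (Q : Set G))} (hθ : θ ∈ below p M P c Q) :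
    dval p M P c Q 1 (ext0 _ (θ : Subgroup.centralizer (Q : Set G) → ℂ)) = 1 := by
  rw [dval, show (fun w : Subgroup.centralizer (Q : Set G) =>
      ext0 _ (θ : Subgroup.centralizer (Q : Set G) → ℂ) (1 * (w : G))) =
        (θ : Subgroup.centralizer (Q : Set G) → ℂ) from funext fun w => by rw [one_mul, ext0_coe],
    Finset.sum_eq_single θ]
  · exact Char.classInner_irr_self θ
  · intro ξ _ hne
    exact Char.classInner_irr_of_ne hne.symm
  · exact fun h => absurd ((Set.Finite.mem_toFinset _).2 hθ) h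

variable (hi : GoodIdem p M P c i)
include hi

/-- The ranks below `(P, c)` are prime to `p`. -/
theorem not_dvd_rnum : ∀ S : Subgroup G, S ≤ P → S ≠ ⊥ → ¬ (p : ℤ) ∣ rnum p M P c i S := by
  have hM := hf.modular
  have : M.IsPrime := inferInstance
  intro S
  induction hn : Nat.card P - Nat.card S using Nat.strong_induction_on generalizing S with
  | _ n ih =>
    intro hS hS1
    by_cases hSP : S = P
    · exact hSP ▸ hi.top
    obtain ⟨z, hzP, hzS⟩ : ∃ z ∈ P, z ∉ S :=
      SetLike.exists_of_lt (lt_of_le_of_ne hS hSP)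
    obtain ⟨θ, hθ⟩ := IsPBlock.nonempty (below_isPBlock hf hS)
    obtain ⟨T, hT, hTz, -⟩ := exists_tau_local hf hi hS hS1 θ
    have h1 : T 1 = (rnum p M P c i S : ℂ) := by
      rw [hTz, Subgroup.coe_one, Subgroup.zpowers_one_eq_bot, sup_bot_eq, dval_one hf hθ, one_mul]
    have hlt : S < S ⊔ Subgroup.zpowers z := lt_of_le_of_ne le_sup_left fun e =>
      hzS (e ▸ Subgroup.mem_sup_right (Subgroup.mem_zpowers z))
    have hle : S ⊔ Subgroup.zpowers z ≤ P := sup_le hS (Subgroup.zpowers_le.2 hzP)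
    have hc : Nat.card S < Nat.card (S ⊔ Subgroup.zpowers z : Subgroup G) :=
      lt_of_le_of_ne (Subgroup.card_le_of_le hlt.le) fun e =>
        hlt.ne (Subgroup.eq_of_le_of_card_ge hlt.le e.ge)
    have h' := ih _ (by
      have := Subgroup.card_le_of_le hle
      omega) (S ⊔ Subgroup.zpowers z) rfl hle (ne_bot_of_le_ne_bot hS1 le_sup_left)
    have hr := hT.red_eq hM (isPGroup_P hf) ⟨z, hzP⟩
    rw [hTz, h1, red0_mul (isIntegral_dval_restrict (centralizer_le_of_le le_sup_left) hle
      (Subgroup.mem_sup_right (Subgroup.mem_zpowers z)) θ) (isIntegral_intCast' _)] at hr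
    intro hd
    rw [(red0_eq_zero_iff_dvd hM _).2 hd, mul_eq_zero] at hr
    rcases hr with h | h
    · exact red0_dval_local_ne_zero hf hS hS1 hzP hθ h
    · exact h' ((red0_eq_zero_iff_dvd hM _).1 h)

theorem rnum_ne_zero {S : Subgroup G} (hS : S ≤ P) (hS1 : S ≠ ⊥) :
    (rnum p M P c i S : ℂ) ≠ 0 := by
  intro h
  refine not_dvd_rnum hf hi S hS hS1 ?_
  rw [Int.cast_eq_zero.1 h]
  exact dvd_zero _

/-- The multiplicities at a local subgroup have absolute value one. -/
theorem dval_mul_conj {Q : Subgroup G} (hQ : Q ≤ P) (hQ1 : Q ≠ ⊥) {z : G} (hz : z ∈ P)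
    {θ : IrrCharacter (Subgroup.centralizer (Q : Set G))} (hθ : θ ∈ below p M P c Q) :
    dval p M P c (Q ⊔ Subgroup.zpowers z) z (ext0 _ (θ : Subgroup.centralizer (Q : Set G) → ℂ)) *
      conj (dval p M P c (Q ⊔ Subgroup.zpowers z) z
        (ext0 _ (θ : Subgroup.centralizer (Q : Set G) → ℂ))) = 1 := by
  have hM := hf.modular
  have := Fintype.ofFinite (IrrCharacter (Subgroup.centralizer (Q : Set G)))
  set S := Q ⊔ Subgroup.zpowers z with hSdef
  have hS : S ≤ P := sup_le hQ (Subgroup.zpowers_le.2 hz)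
  have hS1 : S ≠ ⊥ := ne_bot_of_le_ne_bot hQ1 le_sup_left
  have hzS : z ∈ S := Subgroup.mem_sup_right (Subgroup.mem_zpowers z)
  have hCC : Subgroup.centralizer (S : Set G) ≤ Subgroup.centralizer (Q : Set G) :=
    centralizer_le_of_le le_sup_left
  set D := fun θ' : IrrCharacter (Subgroup.centralizer (Q : Set G)) =>
    dval p M P c S z (ext0 _ (θ' : Subgroup.centralizer (Q : Set G) → ℂ)) with hD
  have hint : ∀ θ', IsIntegral ℤ (D θ') := fun θ' => isIntegral_dval_restrict hCC hS hzS θ'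
  set N := Nat.card G with hN
  have hN0 : N ≠ 0 := Nat.card_pos.ne'
  set ζ : ℂ := Complex.exp (2 * Real.pi * Complex.I / (N : ℕ))
  have hζ : IsPrimitiveRoot ζ N := Complex.isPrimitiveRoot_exp N hN0
  have hmem : ∀ θ', D θ' ∈ IntermediateField.adjoin ℚ ({ζ} : Set ℂ) := fun θ' => by
    refine sum_mem fun ξ _ => ?_
    rw [Cfsg.classInner]
    refine mul_mem (inv_mem (natCast_mem _ _)) (sum_mem fun w _ => mul_mem ?_ ?_)
    · rw [show z * (w : G) = ((⟨z * (w : G), mul_mem (le_centralizer hf hQ hz) (hCC w.2)⟩ :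
        Subgroup.centralizer (Q : Set G)) : G) from rfl, ext0_coe]
      exact CfsgLib.Char.apply_mem_adjoin (Char.IsIrr.isCharacter θ'.2) hN0 hζ
        (by rw [← Subgroup.orderOf_coe]; exact orderOf_dvd_natCard _)
    · rw [← Char.IsIrr.map_inv ξ.2]
      exact CfsgLib.Char.apply_mem_adjoin (Char.IsIrr.isCharacter ξ.2) hN0 hζ
        (by rw [← Subgroup.orderOf_coe]; exact orderOf_dvd_natCard _)
  set Sb := (Set.toFinite (below p M P c Q)).toFinset with hSb
  have hsum : ∑ θ' ∈ Sb, D θ' * conj (D θ') = (Sb.card : ℂ) := by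
    have hcard : Sb.card = Nat.card P := by
      rw [← (below_shape hf hQ hQ1).1, Nat.card_coe_set_eq, Set.ncard_eq_toFinset_card]
    rw [hcard, ← sum_dval_local hf hQ hQ1 hz]
    refine Finset.sum_subset (Finset.subset_univ _) fun θ' _ hθ' => ?_
    obtain ⟨T, -, hTz, hT0⟩ := exists_tau_local hf hi hQ hQ1 θ'
    have h := hT0 (fun h => hθ' ((Set.Finite.mem_toFinset _).2 h)) ⟨z, hz⟩
    rw [hTz] at h
    show D θ' * conj (D θ') = 0
    rw [show D θ' = 0 from (mul_eq_zero.1 h).resolve_right (rnum_ne_zero hf hi hS hS1), zero_mul]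
  have h := eq_one_of_sum_norms (κ := fun _ : IrrCharacter (Subgroup.centralizer (Q : Set G)) => Unit)
    Sb (fun _ => 1) (fun _ _ => zero_le_one) (fun θ' _ => D θ') hN0 hζ (fun θ' _ _ => hmem θ')
    (fun θ' _ => by
      simp only [Rat.cast_one, one_mul, Finset.univ_unique, Finset.sum_singleton]
      exact (hint θ').mul ((hint θ').map (starRingEnd ℂ).toIntAlgHom))
    (fun θ' hθ' => by
      simp only [Rat.cast_one, one_mul, Finset.univ_unique, Finset.sum_singleton]
      have hne : D θ' ≠ 0 := fun h => red0_dval_local_ne_zero hf hQ hQ1 hz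
        ((Set.Finite.mem_toFinset _).1 hθ') (by
          show red0 M (D θ') = 0
          rw [h, red0_zero])
      exact mul_ne_zero hne ((map_ne_zero (starRingEnd ℂ)).2 hne))
    (by simpa using hsum) θ ((Set.Finite.mem_toFinset _).2 hθ)
  simpa using h

omit hi in
theorem dval_real_of_sq_eq_one {Q : Subgroup G} (hQ : Q ≤ P) {z : G} (hz : z ∈ P) (h2 : z * z = 1)
    (θ : IrrCharacter (Subgroup.centralizer (Q : Set G))) :
    conj (dval p M P c (Q ⊔ Subgroup.zpowers z) z
        (ext0 _ (θ : Subgroup.centralizer (Q : Set G) → ℂ))) =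
      dval p M P c (Q ⊔ Subgroup.zpowers z) z
        (ext0 _ (θ : Subgroup.centralizer (Q : Set G) → ℂ)) := by
  set S := Q ⊔ Subgroup.zpowers z with hSdef
  have hS : S ≤ P := sup_le hQ (Subgroup.zpowers_le.2 hz)
  have hzS : z ∈ S := Subgroup.mem_sup_right (Subgroup.mem_zpowers z)
  have hCC : Subgroup.centralizer (S : Set G) ≤ Subgroup.centralizer (Q : Set G) :=
    centralizer_le_of_le le_sup_left
  let zL : Subgroup.centralizer (S : Set G) := ⟨z, Subgroup.mem_centralizer_iff.2 fun y hy =>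
    comm_of_isMulCommutative y (hS hy) z (hS hzS)⟩
  rw [dval, show (fun w : Subgroup.centralizer (S : Set G) =>
      ext0 _ (θ : Subgroup.centralizer (Q : Set G) → ℂ) (z * (w : G))) =
    fun w => (θ : Subgroup.centralizer (Q : Set G) → ℂ) (Subgroup.inclusion hCC (zL * w)) from
    funext fun w => ext0_coe _ (θ : Subgroup.centralizer (Q : Set G) → ℂ)
      (Subgroup.inclusion hCC (zL * w)), map_sum]
  refine Finset.sum_congr rfl fun ξ _ => ?_
  rw [classInner_translate (fun l => (θ : Subgroup.centralizer (Q : Set G) → ℂ)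
    (Subgroup.inclusion hCC l)) ξ fun g =>
      Subtype.ext (Subgroup.mem_centralizer_iff.1 g.2 z hzS).symm]
  obtain ⟨n, hn⟩ := Char.IsChar.classInner_eq_natCast
    (Char.IsChar.comp (Subgroup.inclusion hCC) (Char.IsIrr.isCharacter θ.2))
    (Char.IsIrr.isCharacter ξ.2)
  rw [show classInner (fun l => (θ : Subgroup.centralizer (Q : Set G) → ℂ)
    (Subgroup.inclusion hCC l)) (ξ : Subgroup.centralizer (S : Set G) → ℂ) = (n : ℂ) from hn,
    map_mul, map_div₀, map_natCast, ← Char.IsIrr.map_inv ξ.2, ← Char.IsIrr.map_inv ξ.2, inv_one,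
    show zL⁻¹ = zL from Subtype.ext (inv_eq_of_mul_eq_one_right h2)]

/-- For each local subgroup the ranks are, up to signs, a generalized character. -/
theorem exists_signed {Q : Subgroup G} (hQ : Q ≤ P) (hQ1 : Q ≠ ⊥) :
    ∃ (A : P → ℂ) (n : P → ℤ), IsGen A ∧ ∀ z : P, A z = n z ∧
      (n z = rnum p M P c i (Q ⊔ Subgroup.zpowers (z : G)) ∨
        n z = -rnum p M P c i (Q ⊔ Subgroup.zpowers (z : G))) := by
  have hM := hf.modular
  have hA := isPGroup_P hf
  obtain ⟨θ, hθ⟩ := IsPBlock.nonempty (below_isPBlock hf hQ)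
  obtain ⟨T, hT, hTz, -⟩ := exists_tau_local hf hi hQ hQ1 θ
  let S : P → Subgroup G := fun z => Q ⊔ Subgroup.zpowers (z : G)
  let ω : P → ℂ := fun z =>
    dval p M P c (S z) z (ext0 _ (θ : Subgroup.centralizer (Q : Set G) → ℂ))
  let r : P → ℂ := fun z => (rnum p M P c i (S z) : ℂ)
  have hTz' : ∀ z, T z = ω z * r z := hTz
  have hω : ∀ z, ω z * conj (ω z) = 1 := fun z => dval_mul_conj hf hi hQ hQ1 z.2 hθ
  have hω1 : ω 1 = 1 := by
    show dval p M P c (Q ⊔ Subgroup.zpowers ((1 : P) : G)) ((1 : P) : G) _ = 1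
    rw [Subgroup.coe_one, Subgroup.zpowers_one_eq_bot, sup_bot_eq, dval_one hf hθ]
  have hSle : ∀ z : P, S z ≤ P := fun z => sup_le hQ (Subgroup.zpowers_le.2 z.2)
  have hωi : ∀ z, IsIntegral ℤ (ω z) := fun z =>
    isIntegral_dval_restrict (centralizer_le_of_le le_sup_left) (hSle z)
      (Subgroup.mem_sup_right (Subgroup.mem_zpowers _)) θ
  have hg : IsGen fun z => r z ^ 2 := (hT.mul hT.conj).congr fun z => by
    rw [hTz', map_mul, show conj (r z) = r z from map_intCast _ _]
    linear_combination (-(r z ^ 2)) * hω z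
  have hS1' : S 1 = Q := by
    show Q ⊔ Subgroup.zpowers ((1 : P) : G) = Q
    rw [Subgroup.coe_one, Subgroup.zpowers_one_eq_bot, sup_bot_eq]
  have hf2 : IsGen fun z => ω z ^ 2 :=
    isGen_of_mul hM hA hg (c := rnum p M P c i Q ^ 2) (by
      show (rnum p M P c i (S 1) : ℂ) ^ 2 = _
      rw [hS1']
      push_cast
      rfl)
      (fun hd => not_dvd_rnum hf hi Q hQ hQ1
        ((Nat.prime_iff_prime_int.1 hM.1).dvd_of_dvd_pow hd))
      (fun z => (hωi z).pow 2) ((hT.mul hT).congr fun z => by rw [hTz']; ring)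
  obtain ⟨lam, hlam⟩ := exists_eq_lam hf2
    (fun z => by rw [map_pow, ← mul_pow, hω, one_pow]) (by rw [hω1, one_pow])
  obtain ⟨mu, hmu⟩ := exists_sq lam fun z hz => Units.ext (by
    rw [← hlam, Units.val_one, sq]
    have hreal : conj (ω z) = ω z :=
      dval_real_of_sq_eq_one hf hQ z.2 (congrArg Subtype.val hz) θ
    nth_rewrite 2 [← hreal]
    exact hω z)
  have hsign : ∀ z, conj ((mu z : ℂˣ) : ℂ) * ω z = 1 ∨ conj ((mu z : ℂˣ) : ℂ) * ω z = -1 := by
    intro z
    refine sq_eq_one_iff.1 ?_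
    rw [mul_pow, hlam, conj_lam, ← hmu z, Units.val_mul, map_inv, Units.val_inv_eq_inv_val]
    field_simp [Units.ne_zero]
  refine ⟨fun z => conj ((mu z : ℂˣ) : ℂ) * T z,
    fun z => if conj ((mu z : ℂˣ) : ℂ) * ω z = 1 then rnum p M P c i (S z) else
      -rnum p M P c i (S z), (IsGen.lam mu).conj.mul hT, fun z => ⟨?_, ?_⟩⟩
  · show conj ((mu z : ℂˣ) : ℂ) * T z = _
    rw [hTz', ← mul_assoc]
    simp only []
    by_cases h : conj ((mu z : ℂˣ) : ℂ) * ω z = 1
    · rw [if_pos h, h, one_mul]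
    · rw [if_neg h, (hsign z).resolve_left h, Int.cast_neg, neg_one_mul]
  · by_cases h : conj ((mu z : ℂˣ) : ℂ) * ω z = 1
    · exact Or.inl (if_pos h)
    · exact Or.inr (if_neg h)

/-- All ranks agree up to sign modulo `p`. -/
theorem rnum_congr : ∀ R : Subgroup G, R ≤ P → R ≠ ⊥ →
    (p : ℤ) ∣ rnum p M P c i R - rnum p M P c i P ∨
      (p : ℤ) ∣ rnum p M P c i R + rnum p M P c i P := by
  have hM := hf.modular
  intro R
  induction hn : Nat.card P - Nat.card R using Nat.strong_induction_on generalizing R with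
  | _ n ih =>
    intro hR hR1
    by_cases hRP : R = P
    · exact Or.inl (by rw [hRP, sub_self]; exact dvd_zero _)
    obtain ⟨z, hzP, hzR⟩ : ∃ z ∈ P, z ∉ R := SetLike.exists_of_lt (lt_of_le_of_ne hR hRP)
    have hlt : R < R ⊔ Subgroup.zpowers z := lt_of_le_of_ne le_sup_left fun e =>
      hzR (e ▸ Subgroup.mem_sup_right (Subgroup.mem_zpowers z))
    have hle : R ⊔ Subgroup.zpowers z ≤ P := sup_le hR (Subgroup.zpowers_le.2 hzP)
    have hc : Nat.card R < Nat.card (R ⊔ Subgroup.zpowers z : Subgroup G) :=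
      lt_of_le_of_ne (Subgroup.card_le_of_le hlt.le) fun e =>
        hlt.ne (Subgroup.eq_of_le_of_card_ge hlt.le e.ge)
    have h' := ih _ (by
      have := Subgroup.card_le_of_le hle
      omega) (R ⊔ Subgroup.zpowers z) rfl hle (ne_bot_of_le_ne_bot hR1 le_sup_left)
    obtain ⟨A, m, hA, hAn⟩ := exists_signed hf hi hR hR1
    have hr := hA.red_eq hM (isPGroup_P hf) ⟨z, hzP⟩
    rw [(hAn _).1, (hAn 1).1, ← sub_eq_zero, red0_intCast, red0_intCast, ← Int.cast_sub,
      ← red0_intCast, red0_eq_zero_iff_dvd hM] at hr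
    have h1 := (hAn 1).2
    rw [Subgroup.coe_one, Subgroup.zpowers_one_eq_bot, sup_bot_eq] at h1
    have h2 : m ⟨z, hzP⟩ = rnum p M P c i (R ⊔ Subgroup.zpowers z) ∨
        m ⟨z, hzP⟩ = -rnum p M P c i (R ⊔ Subgroup.zpowers z) := (hAn ⟨z, hzP⟩).2
    simp only [← ZMod.intCast_zmod_eq_zero_iff_dvd, Int.cast_sub, Int.cast_add, sub_eq_zero,
      add_eq_zero_iff_eq_neg] at hr h' ⊢
    rcases h1 with h1 | h1 <;> rcases h2 with h2 | h2 <;> rw [h1, h2] at hr <;>
      (try simp only [Int.cast_neg, neg_inj] at hr) <;> rcases h' with h' | h'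
    all_goals first
      | (left; linear_combination h' + hr)
      | (left; linear_combination h' - hr)
      | (left; linear_combination -h' + hr)
      | (left; linear_combination -h' - hr)
      | (right; linear_combination h' + hr)
      | (right; linear_combination h' - hr)
      | (right; linear_combination -h' + hr)
      | (right; linear_combination -h' - hr)

/-- Signed ranks, congruent to each other modulo `p`, giving generalized characters. -/
theorem exists_weights : ∃ W : Subgroup G → ℤ,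
    (∀ R, W R = rnum p M P c i R ∨ W R = -rnum p M P c i R) ∧
    (∀ R, R ≤ P → R ≠ ⊥ → (p : ℤ) ∣ W R - W P) ∧
    ∀ Q, Q ≤ P → Q ≠ ⊥ →
      IsGen fun z : P => (W (Q ⊔ Subgroup.zpowers (z : G)) : ℂ) := by
  have hM := hf.modular
  have hA := isPGroup_P hf
  have hp := Nat.prime_iff_prime_int.1 hM.1
  by_cases hp2 : p = 2
  · subst hp2
    have hodd := not_dvd_rnum hf hi
    let W : Subgroup G → ℤ := fun R =>
      if (4 : ℤ) ∣ rnum 2 M P c i R - 1 then rnum 2 M P c i R else -rnum 2 M P c i R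
    have hWor : ∀ R, W R = rnum 2 M P c i R ∨ W R = -rnum 2 M P c i R := fun R => by
      by_cases h : (4 : ℤ) ∣ rnum 2 M P c i R - 1
      · exact Or.inl (if_pos h)
      · exact Or.inr (if_neg h)
    have hW4 : ∀ R, R ≤ P → R ≠ ⊥ → (4 : ℤ) ∣ W R - 1 := fun R hR hR1 => by
      by_cases h : (4 : ℤ) ∣ rnum 2 M P c i R - 1
      · rwa [show W R = _ from if_pos h]
      · rw [show W R = _ from if_neg h]
        have := hodd R hR hR1
        push_cast at this
        omega
    refine ⟨W, hWor, fun R hR hR1 => ?_, fun Q hQ hQ1 => ?_⟩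
    · have h1 := hW4 R hR hR1
      have h2 := hW4 P le_rfl hf.ne_bot
      push_cast
      omega
    obtain ⟨A, n, hAg, hAn⟩ := exists_signed hf hi hQ hQ1
    obtain ⟨g, hg, hgz⟩ := exists_sign hA hAg (z := n) (fun z => (hAn z).1) fun z hd => by
      refine hodd _ (sup_le hQ (Subgroup.zpowers_le.2 z.2)) (ne_bot_of_le_ne_bot hQ1 le_sup_left) ?_
      rcases (hAn z).2 with h | h <;> rw [h] at hd <;> push_cast
      · exact hd
      · exact dvd_neg.1 hd
    refine hg.congr fun z => ?_
    obtain ⟨z', h1, h2, h3⟩ := hgz z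
    show (W (Q ⊔ Subgroup.zpowers (z : G)) : ℂ) = g z
    rw [h1]
    congr 1
    have h4 := hW4 _ (sup_le hQ (Subgroup.zpowers_le.2 z.2)) (ne_bot_of_le_ne_bot hQ1 le_sup_left)
    rcases hWor (Q ⊔ Subgroup.zpowers (z : G)) with e | e <;> rcases (hAn z).2 with e' | e' <;>
      rcases h2 with e'' | e'' <;> rw [e] at h4 ⊢ <;> rw [e'', e'] at h3 ⊢ <;> omega
  · let c0 : ℤ := rnum p M P c i P
    let W : Subgroup G → ℤ := fun R =>
      if (p : ℤ) ∣ rnum p M P c i R - c0 then rnum p M P c i R else -rnum p M P c i R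
    have hWor : ∀ R, W R = rnum p M P c i R ∨ W R = -rnum p M P c i R := fun R => by
      by_cases h : (p : ℤ) ∣ rnum p M P c i R - c0
      · exact Or.inl (if_pos h)
      · exact Or.inr (if_neg h)
    have hWc : ∀ R, R ≤ P → R ≠ ⊥ → (p : ℤ) ∣ W R - c0 := fun R hR hR1 => by
      by_cases h : (p : ℤ) ∣ rnum p M P c i R - c0
      · rwa [show W R = _ from if_pos h]
      · rw [show W R = _ from if_neg h]
        rcases rnum_congr hf hi R hR hR1 with h' | h'
        · exact absurd h' h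
        · rw [show -rnum p M P c i R - c0 = -(rnum p M P c i R + rnum p M P c i P) by
            simp only [c0]; ring]
          exact dvd_neg.2 h'
    have hWP : W P = c0 := if_pos (by simp [c0])
    refine ⟨W, hWor, fun R hR hR1 => by rw [hWP]; exact hWc R hR hR1, fun Q hQ hQ1 => ?_⟩
    obtain ⟨A, n, hAg, hAn⟩ := exists_signed hf hi hQ hQ1
    have hn1 := (hAn 1).2
    rw [Subgroup.coe_one, Subgroup.zpowers_one_eq_bot, sup_bot_eq] at hn1
    let s : ℤ := if n 1 = W Q then 1 else -1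
    have hs1 : s * n 1 = W Q := by
      by_cases h : n 1 = W Q
      · simp [s, h]
      · simp only [s, if_neg h]
        rcases hn1 with e | e <;> rcases hWor Q with e' | e' <;> omega
    refine (IsGen.intMul s hAg).congr fun z => ?_
    show (W (Q ⊔ Subgroup.zpowers (z : G)) : ℂ) = (s : ℂ) * A z
    rw [(hAn z).1, ← Int.cast_mul]
    congr 1
    have hSle := sup_le hQ (Subgroup.zpowers_le.2 z.2)
    have hS1 : Q ⊔ Subgroup.zpowers (z : G) ≠ ⊥ := ne_bot_of_le_ne_bot hQ1 le_sup_left
    have hr := (IsGen.intMul s hAg).red_eq hM hA z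
    rw [(hAn z).1, (hAn 1).1, ← Int.cast_mul, ← Int.cast_mul, hs1, ← sub_eq_zero, red0_intCast,
      red0_intCast, ← Int.cast_sub, ← red0_intCast, red0_eq_zero_iff_dvd hM] at hr
    have hq : (p : ℤ) ∣ W (Q ⊔ Subgroup.zpowers (z : G)) - s * n z := by
      rw [show W (Q ⊔ Subgroup.zpowers (z : G)) - s * n z =
        W (Q ⊔ Subgroup.zpowers (z : G)) - c0 - (W Q - c0) - (s * n z - W Q) by ring]
      exact dvd_sub (dvd_sub (hWc _ hSle hS1) (hWc Q hQ hQ1)) hr
    by_contra hne
    have hneg : s * n z = -W (Q ⊔ Subgroup.zpowers (z : G)) := by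
      have hs : s = 1 ∨ s = -1 := by
        by_cases h : n 1 = W Q
        · exact Or.inl (if_pos h)
        · exact Or.inr (if_neg h)
      rcases hs with e | e <;> rw [e] at hne ⊢ <;> rcases (hAn z).2 with e' | e' <;>
        rcases hWor (Q ⊔ Subgroup.zpowers (z : G)) with e'' | e'' <;> omega
    rw [hneg, sub_neg_eq_add, ← two_mul] at hq
    rcases hp.dvd_mul.1 hq with h | h
    · exact hp2 ((Nat.prime_dvd_prime_iff_eq hM.1 Nat.prime_two).1 (by exact_mod_cast h))
    · refine not_dvd_rnum hf hi _ hSle hS1 ?_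
      rcases hWor (Q ⊔ Subgroup.zpowers (z : G)) with e | e <;> rw [e] at h
      · exact h
      · exact dvd_neg.1 h

end CfsgLib.FreeInertial
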